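import Mathlib

/-!
# S2499, linear groups: the multiplicative groups of finite fields (helper184)

* `lift_gen` : a generator of a quotient of a finite cyclic group lifts to a generator;
* `exists_ext` : extensions of given degree;
* `card_units`, `gen_pow_eq_one`;
* `exists_gen_nm`, `exists_nm` : a generator with given norm; an element with given norm outside the base field;
* `base_pow` : the powers of a generator in the base field.
-/

set_option autoImplicit false
set_option linter.unusedSectionVars false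

namespace Cfsg.Agent.H184.Cov

open Module

/-- `a` generates the group -/
def IsGen {A : Type*} [Group A] (a : A) : Prop := ∀ x : A, x ∈ Subgroup.zpowers a

theorem IsGen.orderOf {A : Type*} [Group A] {a : A} (h : IsGen a) : orderOf a = Nat.card A := by
  rw [← Nat.card_zpowers, (Subgroup.eq_top_iff' _).2 h, Subgroup.card_top]

theorem IsGen.of_orderOf {A : Type*} [Group A] [Finite A] {a : A} (h : _root_.orderOf a = Nat.card A) : IsGen a := by
  rw [IsGen, ← Subgroup.eq_top_iff']
  exact Subgroup.eq_top_of_card_eq _ (by rw [Nat.card_zpowers, h])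

theorem IsGen.map {A B : Type*} [Group A] [Group B] {a : A} (h : IsGen a) (f : A →* B) (hf : Function.Surjective f) :
    IsGen (f a) := by
  intro x
  obtain ⟨y, rfl⟩ := hf x
  obtain ⟨i, rfl⟩ := h y
  exact ⟨i, by simp⟩

theorem IsGen.exists_pow {A : Type*} [Group A] [Finite A] {a : A} (h : IsGen a) (x : A) : ∃ i : ℕ, a ^ i = x := by
  have := h x
  rwa [← mem_powers_iff_mem_zpowers] at this

theorem IsGen.inv {A : Type*} [Group A] {a : A} (h : IsGen a) : IsGen a⁻¹ := by
  intro x
  rw [Subgroup.zpowers_inv]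
  exact h x

theorem exists_gen_of_cyclic (A : Type*) [Group A] [IsCyclic A] : ∃ a : A, IsGen a := IsCyclic.exists_generator

/-- a generator lifts to a generator -/
theorem lift_gen {A B : Type*} [Group A] [Group B] [Finite A] [IsCyclic A] (f : A →* B)
    (hf : Function.Surjective f) {b : B} (hb : IsGen b) : ∃ a : A, f a = b ∧ IsGen a := by
  obtain ⟨g, hg⟩ := exists_gen_of_cyclic A
  have hfin : Finite B := Finite.of_surjective _ hf
  have hfg := hg.map f hf
  obtain ⟨i, hi⟩ := hfg.exists_pow b
  have hm : Nat.card B ∣ Nat.card A := Subgroup.card_dvd_of_surjective f hf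
  have hB : Nat.card B ≠ 0 := Nat.card_pos.ne'
  have hA : NeZero (Nat.card A) := ⟨Nat.card_pos.ne'⟩
  have hco : Nat.Coprime i (Nat.card B) := by
    have h1 : orderOf (f g ^ i) = Nat.card B := by rw [hi, hb.orderOf]
    rw [orderOf_pow, hfg.orderOf] at h1
    rw [Nat.coprime_comm]
    have h2 := Nat.gcd_dvd_left (Nat.card B) i
    have h3 := Nat.div_mul_cancel h2
    rw [h1] at h3
    exact Nat.eq_of_mul_eq_mul_left (Nat.pos_of_ne_zero hB) (by rw [h3, mul_one])
  obtain ⟨u, hu⟩ := ZMod.unitsMap_surjective hm (ZMod.unitOfCoprime i hco)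
  obtain ⟨j, hj, hjB⟩ : ∃ j : ℕ, Nat.Coprime j (Nat.card A) ∧ (j : ZMod (Nat.card B)) = (i : ZMod (Nat.card B)) := by
    refine ⟨(u : ZMod (Nat.card A)).val, ZMod.val_coe_unit_coprime u, ?_⟩
    have h1 := congrArg (fun w : (ZMod (Nat.card B))ˣ => (w : ZMod (Nat.card B))) hu
    simp only [ZMod.unitsMap_def, Units.coe_map, MonoidHom.coe_coe, ZMod.castHom_apply, ZMod.coe_unitOfCoprime] at h1
    rw [← h1, ZMod.natCast_val]
  refine ⟨g ^ j, ?_, IsGen.of_orderOf ?_⟩
  · rw [map_pow, ← hi]
    rw [pow_eq_pow_iff_modEq, hfg.orderOf]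
    exact (ZMod.natCast_eq_natCast_iff _ _ _).1 hjB
  · rw [orderOf_pow, hg.orderOf, Nat.Coprime.gcd_eq_one (Nat.Coprime.symm hj), Nat.div_one]

section

variable (K : Type) [Field K] [Finite K]

theorem exists_ext {k : ℕ} (hk : k ≠ 0) : ∃ (L : Type) (_ : Field L) (_ : Algebra K L) (_ : Finite L),
    finrank K L = k := by
  obtain ⟨p, hp⟩ := CharP.exists K
  have : Fact p.Prime := ⟨CharP.char_is_prime K p⟩
  have : NeZero k := ⟨hk⟩
  exact ⟨FiniteField.Extension K p k, inferInstance, inferInstance, inferInstance, FiniteField.finrank_extension K p k⟩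

variable {K} {L : Type*} [Field L] [Algebra K L] [Finite L]

theorem card_field : Nat.card L = Nat.card K ^ finrank K L :=
  have : Module.Finite K L := Module.Finite.of_finite
  Module.natCard_eq_pow_finrank

theorem card_units : Nat.card Lˣ = Nat.card K ^ finrank K L - 1 := by rw [Nat.card_units, card_field (K := K)]

theorem card_units_base : Nat.card Kˣ = Nat.card K - 1 := Nat.card_units K

theorem one_lt_q : 1 < Nat.card K := Finite.one_lt_card

/-- the norm -/
noncomputable abbrev nm : Lˣ →* Kˣ := Units.map (Algebra.norm K (S := L))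

theorem nm_surjective : Function.Surjective (nm : Lˣ →* Kˣ) := FiniteField.unitsMap_norm_surjective K L

variable (K) in
theorem exists_gen : ∃ ω : Lˣ, IsGen ω := exists_gen_of_cyclic Lˣ

theorem exists_gen_nm {ζ : Kˣ} (h : IsGen ζ) : ∃ ω : Lˣ, nm ω = ζ ∧ IsGen ω := lift_gen nm nm_surjective h

theorem IsGen.nm {ω : Lˣ} (h : IsGen ω) : IsGen (nm ω : Kˣ) := h.map _ nm_surjective

/-- the units of the base field -/
theorem pow_eq_one_of_base {u : Lˣ} {c : K} (h : (u : L) = algebraMap K L c) : u ^ (Nat.card K - 1) = 1 := by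
  have hc : c ≠ 0 := by
    rintro rfl
    rw [map_zero] at h
    exact u.ne_zero h
  have : Fintype K := Fintype.ofFinite K
  apply Units.ext
  rw [Units.val_pow_eq_pow_val, h, ← map_pow, Nat.card_eq_fintype_card, FiniteField.pow_card_sub_one_eq_one c hc,
    map_one, Units.val_one]

/-- a power of a generator in the base field -/
theorem IsGen.base_pow {ω : Lˣ} (h : IsGen ω) {i : ℕ} {c : K} (hi : ((ω ^ i : Lˣ) : L) = algebraMap K L c) :
    Nat.card K ^ finrank K L - 1 ∣ i * (Nat.card K - 1) := by
  have h1 := pow_eq_one_of_base hi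
  rw [← pow_mul] at h1
  rw [← card_units, ← h.orderOf]
  exact orderOf_dvd_of_pow_eq_one h1

/-- an element of given norm outside the base field -/
theorem exists_nm (h2 : 2 ≤ finrank K L) (ζ : Kˣ) : ∃ ω : Lˣ, nm ω = ζ ∧ ∀ c : K, (ω : L) ≠ algebraMap K L c := by
  obtain ⟨u, hu⟩ := nm_surjective (K := K) (L := L) ζ
  by_cases h : ∀ c : K, (u : L) ≠ algebraMap K L c
  · exact ⟨u, hu, h⟩
  · push Not at h
    obtain ⟨c, hc⟩ := h
    obtain ⟨g, hg⟩ := exists_gen (L := L)
    refine ⟨u * g ^ (Nat.card K - 1), ?_, fun d hd => ?_⟩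
    · rw [map_mul, hu, map_pow]
      have h1 : (nm g : Kˣ) ^ (Nat.card K - 1) = 1 := by
        rw [← card_units_base]
        exact pow_card_eq_one'
      rw [h1, mul_one]
    · have h1 := pow_eq_one_of_base hd
      rw [mul_pow, pow_eq_one_of_base hc, one_mul, ← pow_mul] at h1
      have h2' := orderOf_dvd_of_pow_eq_one h1
      rw [hg.orderOf, card_units (K := K)] at h2'
      have hq := one_lt_q (K := K)
      have h3 : 0 < (Nat.card K - 1) * (Nat.card K - 1) := Nat.mul_pos (by omega) (by omega)
      have h4 := Nat.le_of_dvd h3 h2'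
      have h5 : Nat.card K ^ 2 ≤ Nat.card K ^ finrank K L := Nat.pow_le_pow_right (by omega) h2
      obtain ⟨m, hm⟩ : ∃ m, Nat.card K = m + 2 := ⟨Nat.card K - 2, by omega⟩
      rw [hm] at h4 h5
      have h6 : (m + 2 - 1) * (m + 2 - 1) = (m + 1) * (m + 1) := by norm_num
      rw [h6] at h4
      have h7 : (m + 2) ^ 2 = (m + 1) * (m + 1) + 2 * m + 3 := by ring
      omega

end

end Cfsg.Agent.H184.Cov
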