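import Mathlib
import Cfsg.Agent.H184.Cov.Field

/-!
# S2499, linear groups: the elements (helper184)

* `OneT g L ω` : `g` acts on `V ≃ L` as the multiplication with `ω`;
* `TwoT g L M ω ν` : `g` acts on `V ≃ L × M` as the multiplication with `(ω, ν)`;
* `exists_one`, `exists_two` : existence, with determinant one;
* `OneT.no_vec`, `OneT.no_fun`, `TwoT.no_vec`, `TwoT.no_fun` : no eigenvectors, no invariant hyperplanes.
-/

set_option autoImplicit false
set_option linter.unusedSectionVars false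

namespace Cfsg.Agent.H184.Cov

open Module

variable {K : Type} [Field K] {V : Type} [AddCommGroup V] [Module K V]

section defs

variable (L : Type) [Field L] [Algebra K L] (M : Type) [Field M] [Algebra K M]

/-- `g` acts as the multiplication with `ω` -/
def OneT (g : V ≃ₗ[K] V) (ω : Lˣ) : Prop := ∃ e : V ≃ₗ[K] L, ∀ v, e (g v) = ω * e v

/-- `g` acts as the multiplication with `(ω, ν)` -/
def TwoT (g : V ≃ₗ[K] V) (ω : Lˣ) (ν : Mˣ) : Prop :=
  ∃ e : V ≃ₗ[K] L × M, ∀ v, e (g v) = ((ω : L) * (e v).1, (ν : M) * (e v).2)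

/-- the multiplication with `ω` -/
def mE (ω : Lˣ) : L ≃ₗ[K] L where
  toFun a := ω * a
  map_add' a b := mul_add _ _ _
  map_smul' c a := by simp [Algebra.mul_smul_comm]
  invFun a := (ω⁻¹ : Lˣ) * a
  left_inv a := by simp
  right_inv a := by simp

theorem mE_apply (ω : Lˣ) (a : L) : mE (K := K) L ω a = ω * a := rfl

theorem det_mE (ω : Lˣ) : LinearMap.det (mE (K := K) L ω : L →ₗ[K] L) = Algebra.norm K (ω : L) := by
  rw [Algebra.norm_apply]
  congr 1

end defs

section

variable {L : Type} [Field L] [Algebra K L] {M : Type} [Field M] [Algebra K M] {g : V ≃ₗ[K] V} {ω : Lˣ} {ν : Mˣ}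

theorem OneT.conj (h : OneT L g ω) (k : V ≃ₗ[K] V) : OneT L (k * g * k⁻¹) ω := by
  obtain ⟨e, he⟩ := h
  refine ⟨k.symm.trans e, fun v => ?_⟩
  change e (k.symm (k (g (k.symm v)))) = _
  rw [LinearEquiv.symm_apply_apply, he]
  rfl

theorem TwoT.conj (h : TwoT L M g ω ν) (k : V ≃ₗ[K] V) : TwoT L M (k * g * k⁻¹) ω ν := by
  obtain ⟨e, he⟩ := h
  refine ⟨k.symm.trans e, fun v => ?_⟩
  change e (k.symm (k (g (k.symm v)))) = _
  rw [LinearEquiv.symm_apply_apply, he]
  rfl

theorem oneT_pow {e : V ≃ₗ[K] L} (he : ∀ v, e (g v) = ω * e v) (i : ℕ) (v : V) :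
    e ((g ^ i) v) = ((ω ^ i : Lˣ) : L) * e v := by
  induction i generalizing v with
  | zero => simp
  | succ i ih =>
    rw [pow_succ]
    change e ((g ^ i) (g v)) = _
    rw [ih, he, pow_succ, Units.val_mul]
    ring

theorem twoT_pow {e : V ≃ₗ[K] L × M} (he : ∀ v, e (g v) = ((ω : L) * (e v).1, (ν : M) * (e v).2)) (i : ℕ) (v : V) :
    e ((g ^ i) v) = (((ω ^ i : Lˣ) : L) * (e v).1, ((ν ^ i : Mˣ) : M) * (e v).2) := by
  induction i generalizing v with
  | zero => simp
  | succ i ih =>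
    rw [pow_succ]
    change e ((g ^ i) (g v)) = _
    rw [ih, he, pow_succ, Units.val_mul, pow_succ, Units.val_mul]
    simp only [Prod.mk.injEq]
    constructor <;> ring

theorem OneT.pow (h : OneT L g ω) (i : ℕ) : OneT L (g ^ i) (ω ^ i) := by
  obtain ⟨e, he⟩ := h
  exact ⟨e, fun v => oneT_pow he i v⟩

theorem TwoT.pow (h : TwoT L M g ω ν) (i : ℕ) : TwoT L M (g ^ i) (ω ^ i) (ν ^ i) := by
  obtain ⟨e, he⟩ := h
  exact ⟨e, fun v => twoT_pow he i v⟩

theorem OneT.orderOf (h : OneT L g ω) : orderOf g = orderOf ω := by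
  obtain ⟨e, he⟩ := h
  rw [orderOf_eq_orderOf_iff]
  intro n
  constructor
  · intro h1
    have h2 := oneT_pow he n (e.symm 1)
    rw [h1] at h2
    change e (e.symm 1) = _ at h2
    rw [LinearEquiv.apply_symm_apply, mul_one] at h2
    exact Units.ext h2.symm
  · intro h1
    apply LinearEquiv.ext
    intro v
    apply e.injective
    rw [oneT_pow he, h1, Units.val_one, one_mul]
    rfl

theorem TwoT.pow_eq_one_iff (h : TwoT L M g ω ν) {n : ℕ} : g ^ n = 1 ↔ ω ^ n = 1 ∧ ν ^ n = 1 := by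
  obtain ⟨e, he⟩ := h
  constructor
  · intro h1
    have h2 := twoT_pow he n (e.symm (1, 1))
    rw [h1] at h2
    change e (e.symm (1, 1)) = _ at h2
    rw [LinearEquiv.apply_symm_apply] at h2
    simp only [mul_one, Prod.mk.injEq] at h2
    exact ⟨Units.ext h2.1.symm, Units.ext h2.2.symm⟩
  · rintro ⟨h1, h2⟩
    apply LinearEquiv.ext
    intro v
    apply e.injective
    rw [twoT_pow he, h1, h2, Units.val_one, Units.val_one, one_mul, one_mul]
    rfl

/-- no eigenvector, no invariant hyperplane -/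
def NoEig (g : V ≃ₗ[K] V) : Prop :=
  (∀ v : V, v ≠ 0 → ∀ c : K, g v ≠ c • v) ∧
    ∀ φ : V →ₗ[K] K, φ ≠ 0 → ∀ c : K, ∃ v, φ (g v) ≠ c * φ v

theorem OneT.noEig (h : OneT L g ω) (hω : ∀ c : K, (ω : L) ≠ algebraMap K L c) : NoEig g := by
  obtain ⟨e, he⟩ := h
  refine ⟨fun v hv c hc => ?_, fun φ hφ c => ?_⟩
  · have h1 := congrArg e hc
    rw [he, map_smul, Algebra.smul_def] at h1
    exact hω c (mul_right_cancel₀ (by rwa [Ne, LinearEquiv.map_eq_zero_iff]) h1)
  · by_contra hcon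
    push Not at hcon
    apply hφ
    ext v
    -- `v = (g - c) w`
    have hd : (ω : L) - algebraMap K L c ≠ 0 := sub_ne_zero.2 (hω c)
    obtain ⟨w, hw⟩ := e.surjective (((ω : L) - algebraMap K L c)⁻¹ * e v)
    have h1 : v = g w - c • w := by
      apply e.injective
      rw [map_sub, he, map_smul, Algebra.smul_def, ← sub_mul, hw, mul_inv_cancel_left₀ hd]
    rw [h1, map_sub, hcon, map_smul, smul_eq_mul, sub_self, LinearMap.zero_apply]

theorem TwoT.noEig (h : TwoT L M g ω ν) (hω : ∀ c : K, (ω : L) ≠ algebraMap K L c)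
    (hν : ∀ c : K, (ν : M) ≠ algebraMap K M c) : NoEig g := by
  obtain ⟨e, he⟩ := h
  refine ⟨fun v hv c hc => ?_, fun φ hφ c => ?_⟩
  · have h1 := congrArg e hc
    rw [he, map_smul] at h1
    have h2 : (ω : L) * (e v).1 = c • (e v).1 := congrArg Prod.fst h1
    have h3 : (ν : M) * (e v).2 = c • (e v).2 := congrArg Prod.snd h1
    rw [Algebra.smul_def] at h2 h3
    have h4 : (e v).1 = 0 := by
      by_contra h0
      exact hω c (mul_right_cancel₀ h0 h2)
    have h5 : (e v).2 = 0 := by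
      by_contra h0
      exact hν c (mul_right_cancel₀ h0 h3)
    apply hv
    rw [← LinearEquiv.map_eq_zero_iff e]
    exact Prod.ext h4 h5
  · by_contra hcon
    push Not at hcon
    apply hφ
    ext v
    have hd : (ω : L) - algebraMap K L c ≠ 0 := sub_ne_zero.2 (hω c)
    have hd' : (ν : M) - algebraMap K M c ≠ 0 := sub_ne_zero.2 (hν c)
    obtain ⟨w, hw⟩ := e.surjective (((ω : L) - algebraMap K L c)⁻¹ * (e v).1, ((ν : M) - algebraMap K M c)⁻¹ * (e v).2)
    have h1 : v = g w - c • w := by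
      apply e.injective
      rw [map_sub, he, map_smul, hw]
      apply Prod.ext
      · change (e v).1 = (ω : L) * (((ω : L) - algebraMap K L c)⁻¹ * (e v).1) -
          c • (((ω : L) - algebraMap K L c)⁻¹ * (e v).1)
        rw [Algebra.smul_def, ← sub_mul, mul_inv_cancel_left₀ hd]
      · change (e v).2 = (ν : M) * (((ν : M) - algebraMap K M c)⁻¹ * (e v).2) -
          c • (((ν : M) - algebraMap K M c)⁻¹ * (e v).2)
        rw [Algebra.smul_def, ← sub_mul, mul_inv_cancel_left₀ hd']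
    rw [h1, map_sub, hcon, map_smul, smul_eq_mul, sub_self, LinearMap.zero_apply]

end

section exist

variable [Finite K] [Finite V] (L : Type) [Field L] [Algebra K L] [Finite L] (M : Type) [Field M] [Algebra K M] [Finite M]

theorem exists_one (hd : finrank K V = finrank K L) (ω : Lˣ) (h : nm ω = (1 : Kˣ)) :
    ∃ g : V ≃ₗ[K] V, LinearMap.det (g : V →ₗ[K] V) = 1 ∧ OneT L g ω := by
  have hV : Module.Finite K V := Module.Finite.of_finite
  have hL : Module.Finite K L := Module.Finite.of_finite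
  obtain ⟨e⟩ : Nonempty (V ≃ₗ[K] L) := ⟨LinearEquiv.ofFinrankEq _ _ hd⟩
  refine ⟨e.trans ((mE L ω).trans e.symm), ?_, e, fun v => ?_⟩
  · have h1 : ((e.trans ((mE L ω).trans e.symm) : V ≃ₗ[K] V) : V →ₗ[K] V) =
        (e.symm : L →ₗ[K] V) ∘ₗ (mE (K := K) L ω : L →ₗ[K] L) ∘ₗ (e.symm.symm : V →ₗ[K] L) := rfl
    rw [h1, LinearMap.det_conj, det_mE]
    exact congrArg Units.val h
  · simp [mE_apply]

theorem exists_two (hd : finrank K V = finrank K L + finrank K M) (ω : Lˣ) (ν : Mˣ) (h : nm ω * nm ν = (1 : Kˣ)) :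
    ∃ g : V ≃ₗ[K] V, LinearMap.det (g : V →ₗ[K] V) = 1 ∧ TwoT L M g ω ν := by
  have hV : Module.Finite K V := Module.Finite.of_finite
  have hL : Module.Finite K L := Module.Finite.of_finite
  have hM : Module.Finite K M := Module.Finite.of_finite
  obtain ⟨e⟩ : Nonempty (V ≃ₗ[K] L × M) := ⟨LinearEquiv.ofFinrankEq _ _ (by rw [hd, Module.finrank_prod])⟩
  refine ⟨e.trans (((mE L ω).prodCongr (mE M ν)).trans e.symm), ?_, e, fun v => ?_⟩
  · have h1 : ((e.trans (((mE L ω).prodCongr (mE M ν)).trans e.symm) : V ≃ₗ[K] V) : V →ₗ[K] V) =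
        (e.symm : L × M →ₗ[K] V) ∘ₗ (LinearMap.prodMap (mE (K := K) L ω : L →ₗ[K] L) (mE (K := K) M ν : M →ₗ[K] M)) ∘ₗ
          (e.symm.symm : V →ₗ[K] L × M) := rfl
    rw [h1, LinearMap.det_conj, LinearMap.det_prodMap, det_mE, det_mE]
    exact congrArg Units.val h
  · simp [mE_apply, LinearEquiv.prodCongr_apply]

end exist

theorem exists_sl {n : ℕ} {g : (Fin n → K) ≃ₗ[K] (Fin n → K)}
    (h : LinearMap.det (g : (Fin n → K) →ₗ[K] (Fin n → K)) = 1) :
    ∃ X : Matrix.SpecialLinearGroup (Fin n) K, Matrix.SpecialLinearGroup.toLin' X = g := by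
  let X : Matrix.SpecialLinearGroup (Fin n) K :=
    ⟨LinearMap.toMatrix' (g : (Fin n → K) →ₗ[K] (Fin n → K)), by rw [LinearMap.det_toMatrix', h]⟩
  refine ⟨X, ?_⟩
  apply LinearEquiv.toLinearMap_injective
  rw [Matrix.SpecialLinearGroup.toLin'_to_linearMap]
  exact Matrix.toLin'_toMatrix' _

end Cfsg.Agent.H184.Cov
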