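import Mathlib
import Cfsg.Agent.H184.Cov.Types
import Cfsg.Agent.H23.FreeAct

/-!
# S2499, linear groups: counting points (helper184)

* `card_dvd_closed` : a subset closed under the multiplication with a subgroup;
* `count_pts` : a set of vectors `(a, c)` of `L × K` with `a ≠ 0 ≠ c`, invariant under `Kˣ` and `(ω, ν)`, `ω` a
  generator of `Lˣ`, has `i (|L| - 1)` elements;
* `card_ker` : the kernel of a linear form;
* `exists_dual` : coordinates on the dual space.
-/

set_option autoImplicit false
set_option linter.unusedSectionVars false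

namespace Cfsg.Agent.H184.Cov

open Module

theorem card_dvd_closed {G : Type*} [Group G] [Finite G] (D : Subgroup G) (A : Set G)
    (h : ∀ d ∈ D, ∀ a ∈ A, d * a ∈ A) : Nat.card D ∣ Nat.card A := by
  letI act : MulAction D A :=
    { smul := fun d a => ⟨d * a, h d d.2 a a.2⟩
      one_smul := fun a => Subtype.ext (one_mul _)
      mul_smul := fun d d' a => Subtype.ext (mul_assoc _ _ _) }
  refine Cfsg.Agent.H23.FreeAct.card_dvd_of_free fun d a hd => ?_
  have h1 : (d : G) * a = a := congrArg Subtype.val hd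
  exact Subtype.ext (mul_eq_right.1 h1)

variable {K : Type} [Field K] [Finite K] {L : Type} [Field L] [Algebra K L] [Finite L]
  {W : Type} [AddCommGroup W] [Module K W]

theorem pow_mem_of {y : W ≃ₗ[K] W} {A : Set W} (h : ∀ w ∈ A, y w ∈ A) (i : ℕ) : ∀ w ∈ A, (y ^ i) w ∈ A := by
  induction i with
  | zero => intro w hw; exact hw
  | succ i ih =>
    intro w hw
    rw [pow_succ]
    exact ih _ (h w hw)

theorem orderOf_pow_base {ω : Lˣ} (hω : IsGen ω) :
    (Nat.card K - 1) * orderOf (ω ^ (Nat.card K - 1)) = Nat.card K ^ finrank K L - 1 := by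
  rw [orderOf_pow, hω.orderOf, card_units (K := K)]
  have hd : Nat.card K - 1 ∣ Nat.card K ^ finrank K L - 1 := by
    have := Nat.sub_dvd_pow_sub_pow (Nat.card K) 1 (finrank K L)
    rwa [one_pow] at this
  rw [Nat.gcd_eq_right hd, Nat.mul_div_cancel' hd]

theorem count_pts [Finite W] {y : W ≃ₗ[K] W} {ω : Lˣ} {ν : Kˣ} (hω : IsGen ω) {e : W ≃ₗ[K] L × K}
    (he : ∀ v, e (y v) = ((ω : L) * (e v).1, (ν : K) * (e v).2)) (A : Set W)
    (hA : ∀ w ∈ A, (e w).1 ≠ 0 ∧ (e w).2 ≠ 0) (hc : ∀ (c : K), c ≠ 0 → ∀ w ∈ A, c • w ∈ A)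
    (hy : ∀ w ∈ A, y w ∈ A) :
    ∃ i, i ≤ Nat.card K - 1 ∧ A.ncard = i * (Nat.card K ^ finrank K L - 1) ∧
      (i = Nat.card K - 1 → ∀ w, (e w).1 ≠ 0 → (e w).2 ≠ 0 → w ∈ A) := by
  obtain ⟨q, hq⟩ : ∃ q, q = Nat.card K := ⟨_, rfl⟩
  obtain ⟨Q, hQ⟩ : ∃ Q, Q = Nat.card K ^ finrank K L := ⟨_, rfl⟩
  have hq1 : 1 < q := by rw [hq]; exact one_lt_q
  have hL : Nat.card Lˣ = Q - 1 := by rw [card_units (K := K), hQ]
  have hLpos : 0 < Q - 1 := by rw [← hL]; exact Nat.card_pos
  rw [← hQ, ← hq]
  let S : Set Lˣ := {a | e.symm ((a : L), 1) ∈ A}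
  -- the bijection
  have hbij : Nat.card A = (q - 1) * Nat.card S := by
    rw [hq, ← card_units_base, ← Nat.card_prod]
    refine Nat.card_congr ?_
    exact
      { toFun := fun w => (Units.mk0 (e w).2 (hA w w.2).2,
          ⟨Units.mk0 ((e w).2⁻¹ • (e w).1) (smul_ne_zero (inv_ne_zero (hA w w.2).2) (hA w w.2).1), by
            change e.symm (((e w).2⁻¹ • (e w).1), 1) ∈ A
            have h1 : e.symm (((e w).2⁻¹ • (e w).1), (1 : K)) = (e w).2⁻¹ • (w : W) := by
              apply e.injective
              rw [LinearEquiv.apply_symm_apply, map_smul]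
              exact Prod.ext rfl (by
                change (1 : K) = (e w).2⁻¹ * (e w).2
                rw [inv_mul_cancel₀ (hA w w.2).2])
            rw [h1]
            exact hc _ (inv_ne_zero (hA w w.2).2) _ w.2⟩)
        invFun := fun p => ⟨(p.1 : K) • e.symm (((p.2 : Lˣ) : L), 1), hc _ p.1.ne_zero _ p.2.2⟩
        left_inv := fun w => by
          apply Subtype.ext
          apply e.injective
          change e ((e w).2 • e.symm (((e w).2⁻¹ • (e w).1), 1)) = e w
          rw [map_smul, LinearEquiv.apply_symm_apply]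
          exact Prod.ext (by
            change (e w).2 • (e w).2⁻¹ • (e w).1 = (e w).1
            rw [smul_inv_smul₀ (hA w w.2).2]) (by
            change (e w).2 * 1 = (e w).2
            rw [mul_one])
        right_inv := fun p => by
          have h1 : e ((p.1 : K) • e.symm (((p.2 : Lˣ) : L), 1)) = ((p.1 : K) • ((p.2 : Lˣ) : L), (p.1 : K)) := by
            rw [map_smul, LinearEquiv.apply_symm_apply]
            exact Prod.ext rfl (mul_one _)
          refine Prod.ext (Units.ext ?_) (Subtype.ext (Units.ext ?_))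
          · exact congrArg Prod.snd h1
          · change (e ((p.1 : K) • e.symm (((p.2 : Lˣ) : L), 1))).2⁻¹ •
              (e ((p.1 : K) • e.symm (((p.2 : Lˣ) : L), 1))).1 = ((p.2 : Lˣ) : L)
            rw [h1]
            exact inv_smul_smul₀ p.1.ne_zero _ }
  -- the divisibility
  have hdvd : orderOf (ω ^ (q - 1)) ∣ Nat.card S := by
    rw [← Nat.card_zpowers]
    refine card_dvd_closed _ _ fun d hd a ha => ?_
    rw [← mem_powers_iff_mem_zpowers] at hd
    obtain ⟨i, rfl⟩ := hd
    have h1 := pow_mem_of hy ((q - 1) * i) _ ha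
    have h2 : (y ^ ((q - 1) * i)) (e.symm ((a : L), (1 : K))) =
        e.symm ((((ω ^ (q - 1)) ^ i * a : Lˣ) : L), (1 : K)) := by
      apply e.injective
      rw [twoT_pow he, LinearEquiv.apply_symm_apply, LinearEquiv.apply_symm_apply, pow_mul, pow_mul ν]
      have h3 : ν ^ (q - 1) = 1 := by
        rw [hq, ← card_units_base]
        exact pow_card_eq_one'
      rw [h3, one_pow]
      simp
    rw [h2] at h1
    exact h1
  have hord : (q - 1) * orderOf (ω ^ (q - 1)) = Q - 1 := by rw [hq, hQ]; exact orderOf_pow_base hω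
  obtain ⟨i, hi⟩ := hdvd
  have hcard : A.ncard = i * (Q - 1) := by
    rw [← Nat.card_coe_set_eq, hbij, hi, ← hord]
    ring
  -- the set of all
  let E : Set W := {w | (e w).1 ≠ 0 ∧ (e w).2 ≠ 0}
  have hE : E.ncard = (q - 1) * (Q - 1) := by
    rw [← Nat.card_coe_set_eq, ← hL, hq, ← card_units_base, ← Nat.card_prod]
    refine Nat.card_congr ?_
    exact
      { toFun := fun w => (Units.mk0 (e w).2 w.2.2, Units.mk0 (e w).1 w.2.1)
        invFun := fun p => ⟨e.symm ((p.2 : L), (p.1 : K)), by
          change (e (e.symm _)).1 ≠ 0 ∧ (e (e.symm _)).2 ≠ 0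
          rw [LinearEquiv.apply_symm_apply]
          exact ⟨p.2.ne_zero, p.1.ne_zero⟩⟩
        left_inv := fun w => by
          apply Subtype.ext
          exact e.symm_apply_apply _
        right_inv := fun p => by
          refine Prod.ext (Units.ext ?_) (Units.ext ?_)
          · change (e (e.symm ((p.2 : L), (p.1 : K)))).2 = _
            rw [LinearEquiv.apply_symm_apply]
          · change (e (e.symm ((p.2 : L), (p.1 : K)))).1 = _
            rw [LinearEquiv.apply_symm_apply] }
  have hsub : A ⊆ E := fun w hw => hA w hw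
  refine ⟨i, ?_, hcard, fun hi' w h1 h2 => ?_⟩
  · have h3 := Set.ncard_le_ncard hsub (Set.toFinite _)
    rw [hE, hcard] at h3
    exact Nat.le_of_mul_le_mul_right h3 hLpos
  · have h3 : A = E := Set.eq_of_subset_of_ncard_le hsub (by rw [hE, hcard, hi']) (Set.toFinite _)
    rw [h3]
    exact ⟨h1, h2⟩

theorem card_ker [Finite W] {φ : W →ₗ[K] K} (hφ : φ ≠ 0) :
    {w : W | w ≠ 0 ∧ φ w = 0}.ncard = Nat.card K ^ (finrank K W - 1) - 1 := by
  have hfin : Module.Finite K W := Module.Finite.of_finite
  have h1 : finrank K (LinearMap.ker φ) = finrank K W - 1 := by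
    have h2 := LinearMap.finrank_range_add_finrank_ker φ
    have h3 : finrank K (LinearMap.range φ) = 1 := by
      rw [LinearMap.range_eq_top.2 (LinearMap.surjective hφ), finrank_top, finrank_self]
    omega
  rw [← h1, ← Module.natCard_eq_pow_finrank]
  have h2 : {w : W | w ≠ 0 ∧ φ w = 0} = (LinearMap.ker φ : Set W) \ {0} := by
    ext w
    simp [and_comm]
  rw [h2, Set.ncard_sdiff_singleton_of_mem (by simp)]
  rfl

theorem exists_form : ∃ ℓ : L →ₗ[K] K, ℓ ≠ 0 := by
  obtain ⟨ℓ, hℓ⟩ := LinearMap.exists_leftInverse_of_injective (Algebra.linearMap K L)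
    (LinearMap.ker_eq_bot.2 (algebraMap K L).injective)
  refine ⟨ℓ, fun h => ?_⟩
  rw [h, LinearMap.zero_comp] at hℓ
  exact zero_ne_one (congrArg (fun f : K →ₗ[K] K => f 1) hℓ)

theorem exists_dual [Finite W] (e : W ≃ₗ[K] L × K) {ℓ : L →ₗ[K] K} (hℓ : ℓ ≠ 0) :
    ∃ e' : Dual K W ≃ₗ[K] L × K, ∀ φ v, φ v = ℓ ((e' φ).1 * (e v).1) + (e' φ).2 * (e v).2 := by
  have hfin : Module.Finite K W := Module.Finite.of_finite
  have hfinL : Module.Finite K L := Module.Finite.of_finite
  let f : L × K →ₗ[K] Dual K W :=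
    { toFun := fun p =>
        { toFun := fun v => ℓ (p.1 * (e v).1) + p.2 * (e v).2
          map_add' := fun v w => by
            simp only [map_add, Prod.fst_add, Prod.snd_add, mul_add]
            ring
          map_smul' := fun c v => by
            simp only [map_smul, Prod.smul_fst, Prod.smul_snd, Algebra.mul_smul_comm, smul_eq_mul, RingHom.id_apply]
            ring }
      map_add' := fun p p' => by
        ext v
        simp only [Prod.fst_add, Prod.snd_add, add_mul, map_add, LinearMap.coe_mk, AddHom.coe_mk, LinearMap.add_apply]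
        ring
      map_smul' := fun c p => by
        ext v
        simp only [Prod.smul_fst, Prod.smul_snd, Algebra.smul_mul_assoc, map_smul, smul_eq_mul, LinearMap.coe_mk,
          AddHom.coe_mk, LinearMap.smul_apply, RingHom.id_apply]
        ring }
  have hf : ∀ p v, f p v = ℓ (p.1 * (e v).1) + p.2 * (e v).2 := fun p v => rfl
  have hinj : Function.Injective f := by
    rw [injective_iff_map_eq_zero]
    rintro ⟨b, d⟩ h
    have hd : d = 0 := by
      have h1 := congrArg (fun g : Dual K W => g (e.symm (0, 1))) h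
      simp only [LinearMap.zero_apply, hf, LinearEquiv.apply_symm_apply] at h1
      simpa using h1
    have hb : b = 0 := by
      by_contra hb
      apply hℓ
      ext a
      have h1 := congrArg (fun g : Dual K W => g (e.symm (b⁻¹ * a, 0))) h
      simp only [LinearMap.zero_apply, hf, LinearEquiv.apply_symm_apply, mul_zero, add_zero] at h1
      rw [mul_inv_cancel_left₀ hb] at h1
      rw [h1, LinearMap.zero_apply]
    rw [hd, hb]
    rfl
  have hdim : finrank K (L × K) = finrank K (Dual K W) := by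
    rw [Subspace.dual_finrank_eq, e.finrank_eq]
  let E : (L × K) ≃ₗ[K] Dual K W := LinearEquiv.ofInjectiveOfFinrankEq f hinj hdim
  refine ⟨E.symm, fun φ v => ?_⟩
  have h1 : E (E.symm φ) = f (E.symm φ) := rfl
  rw [← hf, ← h1, LinearEquiv.apply_symm_apply]

end Cfsg.Agent.H184.Cov
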