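import Mathlib
import Cfsg.Agent.H184.Cov.Types
import Cfsg.Agent.H184.Cov.Count

/-!
# S2499, linear groups: overgroups of a Singer cycle and an element of type `(n - 2, 2)` (helper184)

`hside` : a subgroup of `GL(V)` containing the `(q - 1)`-st power `s` of a Singer cycle and `g = (ω₁, ω₂)` on
`V = L × M`, `ω₁`, `ω₂` generators, `dim M = 2`, is transitive on the nonzero vectors.
-/

set_option autoImplicit false
set_option linter.unusedSectionVars false

namespace Cfsg.Agent.H184.Cov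

open Module

variable {K : Type} [Field K] [Finite K] {V : Type} [AddCommGroup V] [Module K V] [Finite V]

theorem free_zpowers {z : V ≃ₗ[K] V} {A : Set V} (hA : ∀ a ∈ A, z a ∈ A)
    (hf : ∀ a ∈ A, ∀ i : ℕ, (z ^ i) a = a → z ^ i = 1) : orderOf z ∣ A.ncard := by
  have hfin : Finite (V ≃ₗ[K] V) := DFunLike.finite _
  have hA' : ∀ d ∈ Subgroup.zpowers z, ∀ a ∈ A, d a ∈ A := by
    intro d hd a ha
    rw [← mem_powers_iff_mem_zpowers] at hd
    obtain ⟨i, rfl⟩ := hd
    exact pow_mem_of hA i a ha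
  letI act : MulAction (Subgroup.zpowers z) A :=
    { smul := fun d a => ⟨(d : V ≃ₗ[K] V) a, hA' d d.2 a a.2⟩
      one_smul := fun a => Subtype.ext rfl
      mul_smul := fun d d' a => Subtype.ext rfl }
  rw [← Nat.card_zpowers, ← Nat.card_coe_set_eq]
  refine Cfsg.Agent.H23.FreeAct.card_dvd_of_free fun d a hd => ?_
  have h1 : (d : V ≃ₗ[K] V) a = a := congrArg Subtype.val hd
  have h2 := d.2
  rw [← mem_powers_iff_mem_zpowers] at h2
  obtain ⟨i, hi⟩ := h2
  have hi' : z ^ i = (d : V ≃ₗ[K] V) := hi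
  apply Subtype.ext
  rw [← hi'] at h1 ⊢
  exact hf a a.2 i h1

/-- the order of `ω ^ (q² - 1)` is large -/
theorem big_order {q k r : ℕ} (hq : 2 ≤ q) (hk : 3 ≤ k) (hr : 0 < r) (h : q ^ k - 1 ∣ (q ^ 2 - 1) * r) :
    q ^ 2 - 1 < r := by
  obtain ⟨m, rfl⟩ : ∃ m, q = m + 1 := ⟨q - 1, by omega⟩
  have hm : 1 ≤ m := by omega
  have e2 : (m + 1) ^ 2 - 1 = m * (m + 2) := by
    have : (m + 1) ^ 2 = m * (m + 2) + 1 := by ring
    omega
  rcases Nat.lt_or_ge k 4 with h1 | h1
  · obtain rfl : k = 3 := by omega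
    have e3 : (m + 1) ^ 3 - 1 = m * (m ^ 2 + 3 * m + 3) := by
      have : (m + 1) ^ 3 = m * (m ^ 2 + 3 * m + 3) + 1 := by ring
      omega
    rw [e2, e3, mul_assoc] at h
    have h2 : m ^ 2 + 3 * m + 3 ∣ (m + 2) * r := Nat.dvd_of_mul_dvd_mul_left (by omega) h
    have h3 : Nat.Coprime (m ^ 2 + 3 * m + 3) (m + 2) := by
      have : m ^ 2 + 3 * m + 3 = 1 + (m + 2) * (m + 1) := by ring
      rw [this]
      simp
    have h4 := Nat.le_of_dvd hr (h3.dvd_of_dvd_mul_left h2)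
    rw [e2]
    nlinarith
  · have h2 := Nat.le_of_dvd (Nat.mul_pos (by rw [e2]; positivity) hr) h
    have h3 : (m + 1) ^ 4 ≤ (m + 1) ^ k := Nat.pow_le_pow_right (by omega) h1
    by_contra hcon
    push Not at hcon
    rw [e2] at h2 hcon
    have h4 : m * (m + 2) * r ≤ m * (m + 2) * (m * (m + 2)) := Nat.mul_le_mul_left _ hcon
    have h5 : (m + 1) ^ 4 = m * (m + 2) * (m * (m + 2)) + 2 * (m * (m + 2)) + 1 := by ring
    have h6 : 0 < m * (m + 2) := by positivity
    omega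

theorem arith_h {m j ε r N : ℕ} (hj : j ≤ m) (hm : 1 ≤ m) (hr : m * (m + 2) < r)
    (hε : ε = 0 ∨ ε = 1) (hN : N ≡ m + 2 [MOD r]) (h : j * N ≡ ε * (m * (m + 2)) [MOD r]) : j = 0 ∨ j = m := by
  have h1 : j * (m + 2) ≡ ε * (m * (m + 2)) [MOD r] := ((Nat.ModEq.refl j).mul hN).symm.trans h
  have h2 : j * (m + 2) ≤ m * (m + 2) := Nat.mul_le_mul_right _ hj
  have h3 : ε * (m * (m + 2)) ≤ m * (m + 2) := by rcases hε with rfl | rfl <;> omega
  have h4 : j * (m + 2) = ε * (m * (m + 2)) := Nat.ModEq.eq_of_lt_of_lt h1 (by omega) (by omega)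
  rcases hε with rfl | rfl
  · left
    rw [zero_mul] at h4
    rcases Nat.mul_eq_zero.1 h4 with h5 | h5
    · exact h5
    · omega
  · right
    rw [one_mul] at h4
    exact Nat.eq_of_mul_eq_mul_right (by omega) h4

variable {S : Type} [Field S] [Algebra K S] [Finite S] {L : Type} [Field L] [Algebra K L] [Finite L]
  {M : Type} [Field M] [Algebra K M] [Finite M]

theorem hside {H : Subgroup (V ≃ₗ[K] V)} {s g : V ≃ₗ[K] V} (hs : s ∈ H) (hg : g ∈ H) {γ : Sˣ} (hγ : IsGen γ)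
    (h1 : OneT S s (γ ^ (Nat.card K - 1))) {ω₁ : Lˣ} {ω₂ : Mˣ} (hω₁ : IsGen ω₁) (hω₂ : IsGen ω₂)
    (h2 : TwoT L M g ω₁ ω₂) (hM : finrank K M = 2) (hL : 3 ≤ finrank K L) :
    ∀ v w : V, v ≠ 0 → w ≠ 0 → ∃ h ∈ H, h v = w := by
  intro v w hv hw
  have hfin : Module.Finite K V := Module.Finite.of_finite
  obtain ⟨e, he⟩ := h1
  obtain ⟨f, hf⟩ := h2
  obtain ⟨q, hq⟩ : ∃ q, q = Nat.card K := ⟨_, rfl⟩
  have hq1 : 1 < q := by rw [hq]; exact one_lt_q
  let A : Set V := {w | ∃ h ∈ H, h v = w}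
  have hAH : ∀ h ∈ H, ∀ w ∈ A, h w ∈ A := by
    rintro h hh w ⟨k, hk, rfl⟩
    exact ⟨h * k, H.mul_mem hh hk, rfl⟩
  have hA0 : ∀ w ∈ A, w ≠ 0 := by
    rintro w ⟨k, hk, rfl⟩
    rwa [Ne, LinearEquiv.map_eq_zero_iff]
  -- the Singer cycle
  obtain ⟨N, hN⟩ : ∃ N, N = orderOf s := ⟨_, rfl⟩
  have hNn : (q - 1) * N = q ^ finrank K V - 1 := by
    rw [hN, OneT.orderOf ⟨e, he⟩, hq, orderOf_pow_base hγ, e.finrank_eq]
  have hNA : N ∣ A.ncard := by
    rw [hN]
    refine free_zpowers (hAH s hs) fun a ha i hi => ?_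
    have h3 := oneT_pow he i a
    rw [hi] at h3
    have h4 : e a ≠ 0 := by
      rw [Ne, LinearEquiv.map_eq_zero_iff]
      exact hA0 a ha
    have h5 : ((γ ^ (Nat.card K - 1)) ^ i : Sˣ) = 1 := by
      apply Units.ext
      rw [Units.val_one]
      exact mul_right_cancel₀ h4 (by rw [one_mul]; exact h3.symm)
    apply LinearEquiv.ext
    intro u
    apply e.injective
    rw [oneT_pow he, h5, Units.val_one, one_mul]
    rfl
  -- the element of type `(n - 2, 2)`
  obtain ⟨z, hz⟩ : ∃ z, z = g ^ (q ^ 2 - 1) := ⟨_, rfl⟩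
  have hzH : z ∈ H := by rw [hz]; exact H.pow_mem hg _
  have hν : ω₂ ^ (q ^ 2 - 1) = 1 := by
    rw [hq, ← hM, ← card_units (K := K) (L := M)]
    exact pow_card_eq_one'
  obtain ⟨η, hη⟩ : ∃ η, η = ω₁ ^ (q ^ 2 - 1) := ⟨_, rfl⟩
  have hzf : ∀ v, f (z v) = ((η : L) * (f v).1, ((1 : Mˣ) : M) * (f v).2) := by
    intro v
    rw [hz, twoT_pow hf, hν, hη]
  obtain ⟨r, hr⟩ : ∃ r, r = orderOf z := ⟨_, rfl⟩
  have hrη : orderOf z = orderOf η := by
    rw [orderOf_eq_orderOf_iff]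
    intro n
    rw [TwoT.pow_eq_one_iff ⟨f, hzf⟩, one_pow]
    simp
  have hr0 : 0 < r := by
    rw [hr, hrη]
    exact orderOf_pos η
  have hdvd : q ^ finrank K L - 1 ∣ (q ^ 2 - 1) * r := by
    have h3 : ω₁ ^ ((q ^ 2 - 1) * r) = 1 := by rw [pow_mul, ← hη, hr, hrη, pow_orderOf_eq_one]
    have h4 := orderOf_dvd_of_pow_eq_one h3
    rwa [hω₁.orderOf, card_units (K := K), ← hq] at h4
  have hbig := big_order hq1 hL hr0 hdvd
  -- the congruences
  let A1 : Set V := {w | w ∈ A ∧ (f w).1 ≠ 0}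
  let A2 : Set V := {w | w ∈ A ∧ (f w).1 = 0}
  have hAu : A = A1 ∪ A2 := by
    ext w
    constructor
    · intro h
      by_cases h1 : (f w).1 = 0
      · exact Or.inr ⟨h, h1⟩
      · exact Or.inl ⟨h, h1⟩
    · rintro (h | h)
      · exact h.1
      · exact h.1
  have hAd : Disjoint A1 A2 := by
    rw [Set.disjoint_left]
    rintro φ ⟨-, h1⟩ ⟨-, h2⟩
    exact h1 h2
  have hrA : r ∣ A1.ncard := by
    rw [hr]
    refine free_zpowers (fun a ha => ⟨hAH z hzH a ha.1, ?_⟩) fun a ha i hi => ?_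
    · rw [hzf]
      exact mul_ne_zero η.ne_zero ha.2
    · have h3 := twoT_pow hzf i a
      rw [hi] at h3
      have h4 : (f a).1 = ((η ^ i : Lˣ) : L) * (f a).1 := congrArg Prod.fst h3
      rw [TwoT.pow_eq_one_iff ⟨f, hzf⟩, one_pow]
      refine ⟨Units.ext ?_, rfl⟩
      rw [Units.val_one]
      exact mul_right_cancel₀ ha.2 (by rw [one_mul]; exact h4.symm)
  have hA2 : ∃ ε, (ε = 0 ∨ ε = 1) ∧ A2.ncard = ε * (q ^ 2 - 1) := by
    by_cases hemp : A2 = ∅
    · exact ⟨0, Or.inl rfl, by rw [hemp, Set.ncard_empty, zero_mul]⟩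
    · obtain ⟨u, hu, hu0⟩ := Set.nonempty_iff_ne_empty.2 hemp
      have hu2 : (f u).2 ≠ 0 := by
        intro h3
        apply hA0 u hu
        rw [← LinearEquiv.map_eq_zero_iff f]
        exact Prod.ext hu0 h3
      refine ⟨1, Or.inr rfl, ?_⟩
      rw [one_mul, hq, ← hM, ← card_units (K := K) (L := M), ← Nat.card_coe_set_eq]
      refine Nat.card_congr ?_
      exact
        { toFun := fun w => Units.mk0 (f w).2 (by
            intro h3
            apply hA0 w w.2.1
            rw [← LinearEquiv.map_eq_zero_iff f]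
            exact Prod.ext w.2.2 h3)
          invFun := fun b => ⟨f.symm (0, (b : M)), by
            refine ⟨?_, by rw [LinearEquiv.apply_symm_apply]⟩
            obtain ⟨i, hi⟩ := hω₂.exists_pow (b / Units.mk0 _ hu2)
            have h3 : f.symm (0, (b : M)) = (g ^ i) u := by
              apply f.injective
              rw [LinearEquiv.apply_symm_apply, twoT_pow hf, hi, Units.val_div_eq_div_val, Units.val_mk0,
                div_mul_cancel₀ _ hu2, hu0, mul_zero]
            rw [h3]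
            exact hAH _ (H.pow_mem hg i) u hu⟩
          left_inv := fun w => by
            apply Subtype.ext
            apply f.injective
            change f (f.symm (0, (f w).2)) = f w
            rw [LinearEquiv.apply_symm_apply]
            exact Prod.ext w.2.2.symm rfl
          right_inv := fun b => by
            apply Units.ext
            change (f (f.symm (0, (b : M)))).2 = b
            rw [LinearEquiv.apply_symm_apply] }
  obtain ⟨ε, hε, hA2c⟩ := hA2
  obtain ⟨j, hj⟩ := hNA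
  -- the whole space
  let T : Set V := {w | w ≠ 0}
  have hT : T.ncard = q ^ finrank K V - 1 := by
    have h3 : T = Set.univ \ {0} := by
      ext w
      simp [T]
    rw [h3, Set.ncard_sdiff_singleton_of_mem (Set.mem_univ _), Set.ncard_univ, Module.natCard_eq_pow_finrank (K := K), hq]
  have hAT : A ⊆ T := hA0
  have hN0 : 0 < N := by
    rw [hN, OneT.orderOf ⟨e, he⟩]
    exact orderOf_pos _
  have hjq : j ≤ q - 1 := by
    have h3 := Set.ncard_le_ncard hAT (Set.toFinite _)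
    rw [hT, hj, ← hNn, mul_comm N j] at h3
    exact Nat.le_of_mul_le_mul_right h3 hN0
  obtain ⟨m, rfl⟩ : ∃ m, q = m + 1 := ⟨q - 1, by omega⟩
  rw [Nat.add_sub_cancel] at hjq hNn
  have e2 : (m + 1) ^ 2 - 1 = m * (m + 2) := by
    have : (m + 1) ^ 2 = m * (m + 2) + 1 := by ring
    omega
  have hNmod : N ≡ m + 2 [MOD r] := by
    -- `N = q² N' + (q + 1)`
    obtain ⟨N', hN'⟩ : ∃ N', N' = orderOf (ω₁ ^ (Nat.card K - 1)) := ⟨_, rfl⟩
    have h3 : m * N' = (m + 1) ^ finrank K L - 1 := by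
      rw [hN', hq, ← orderOf_pow_base hω₁, ← hq, Nat.add_sub_cancel]
    have h4 : r ∣ N' := by
      have h5 : η = (ω₁ ^ (Nat.card K - 1)) ^ (m + 2) := by
        rw [hη, e2, ← pow_mul, ← hq, Nat.add_sub_cancel]
      rw [hr, hrη, hN', h5]
      exact orderOf_pow_dvd _
    have h5 : N = (m + 1) ^ 2 * N' + (m + 2) := by
      apply Nat.eq_of_mul_eq_mul_left (show 0 < m by omega)
      have h6 : finrank K V = 2 + finrank K L := by
        rw [f.finrank_eq, Module.finrank_prod, hM, add_comm]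
      have h7 : 0 < (m + 1) ^ finrank K L := by positivity
      have h8 : m * ((m + 1) ^ 2 * N' + (m + 2)) = (m + 1) ^ 2 * (m * N') + m * (m + 2) := by ring
      rw [hNn, h8, h3, h6, pow_add, ← e2, Nat.mul_sub, mul_one]
      have h9 : (m + 1) ^ 2 * 1 ≤ (m + 1) ^ 2 * (m + 1) ^ finrank K L := Nat.mul_le_mul_left _ h7
      have h10 : 0 < (m + 1) ^ 2 := by positivity
      omega
    rw [h5]
    obtain ⟨c, rfl⟩ := h4
    have : (m + 1) ^ 2 * (r * c) + (m + 2) = (m + 2) + r * ((m + 1) ^ 2 * c) := by ring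
    rw [this]
    exact Nat.add_mul_mod_self_left _ _ _
  have hmod : j * N ≡ ε * (m * (m + 2)) [MOD r] := by
    have h3 : j * N = A1.ncard + A2.ncard := by
      rw [mul_comm, ← hj, hAu, Set.ncard_union_eq hAd]
    rw [h3, hA2c, e2]
    obtain ⟨c, hc⟩ := hrA
    rw [hc]
    exact Nat.mul_add_mod_self_left _ _ _
  have hall : A = T := by
    rcases arith_h hjq (by omega) (by rw [← e2]; exact hbig) hε hNmod hmod with h3 | h3
    · exfalso
      rw [h3, mul_zero, Set.ncard_eq_zero] at hj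
      have h4 : v ∈ A := ⟨1, H.one_mem, rfl⟩
      rw [hj] at h4
      exact h4
    · apply Set.eq_of_subset_of_ncard_le hAT _ (Set.toFinite _)
      rw [hT, hj, h3, mul_comm N m, hNn]
  have h3 : w ∈ A := by
    rw [hall]
    exact hw
  exact h3

end Cfsg.Agent.H184.Cov
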