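import Mathlib
import Cfsg.Agent.H667.HerAct
import Cfsg.Agent.H50.HerKnown
import Cfsg.Agent.H91.HerCons
import Cfsg.Agent.SmallSimple.S1000.PSLFacts

/-!
# S2499, linear groups: Hering's theorem for subgroups of `GL_n(q)`, `n ≥ 5` (helper184)

`her` : a subgroup of `GL(V)` transitive on the points contains `SL(V)`, or preserves the structure of a vector space
over a larger field, or is a group of similarities of a symplectic form, or is contained in `ΓL₁(q ^ n)`, or has order
2184 (`n = 6`, `q = 3`), or has a normal subgroup of order 6048 (`n = 6`, `q = 2`).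
-/

set_option autoImplicit false
set_option linter.unusedSectionVars false

namespace Cfsg.Agent.H184.Cov

open Module

variable {K : Type} [Field K] [Fintype K] {V : Type} [AddCommGroup V] [Module K V] [Finite V]

/-- transitive on the points -/
def PTr (H : Subgroup (V ≃ₗ[K] V)) : Prop := ∀ v w : V, v ≠ 0 → w ≠ 0 → ∃ h ∈ H, ∃ c : K, h v = c • w

/-- the group preserves the structure of an `F`-space, `|F| = q ^ b`, `b ≥ 2` -/
def ExtO (H : Subgroup (V ≃ₗ[K] V)) : Prop :=
  ∃ (F : Type) (_ : Field F) (_ : Fintype F) (_ : Module F V) (φ : K →+* F) (b : ℕ),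
    (∀ (c : K) (v : V), c • v = φ c • v) ∧ 2 ≤ b ∧ Fintype.card F = Fintype.card K ^ b ∧ b ∣ finrank K V ∧
      ∀ h ∈ H, ∃ σ : F ≃+* F, ∀ (c : F) (v : V), h (c • v) = σ c • h v

/-- the group preserves a symplectic form up to scalars -/
def SympO (H : Subgroup (V ≃ₗ[K] V)) : Prop :=
  ∃ f : V →ₗ[K] V →ₗ[K] K, (∀ v, f v v = 0) ∧ (∀ u, (∀ v, f u v = 0) → u = 0) ∧
    ∀ h ∈ H, ∃ μ : K, ∀ u v, f (h u) (h v) = μ * f u v

/-- the group is a group of semilinear maps of a field with `q ^ n` elements -/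
def GamO (H : Subgroup (V ≃ₗ[K] V)) : Prop :=
  ∃ (F : Type) (_ : Field F) (_ : Fintype F) (e : V ≃+ F), Fintype.card F = Fintype.card K ^ finrank K V ∧
      ∀ h ∈ H, ∃ (c : F) (σ : F ≃+* F), ∀ v : V, e (h v) = c * σ (e v)

/-- the exception `SL₂(13)` -/
def ThiO (H : Subgroup (V ≃ₗ[K] V)) : Prop :=
  finrank K V = 6 ∧ Fintype.card K = 3 ∧ Nat.card H = 2184

/-- the exception `U₃(3)` -/
def UniO (H : Subgroup (V ≃ₗ[K] V)) : Prop :=
  finrank K V = 6 ∧ Fintype.card K = 2 ∧ ∃ N : Subgroup (V ≃ₗ[K] V), N ≤ H ∧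
    (∀ h ∈ H, ∀ x ∈ N, h * x * h⁻¹ ∈ N) ∧ Nat.card N = 6048

/-- the group as a group of permutations -/
def PH (H : Subgroup (V ≃ₗ[K] V)) : Subgroup (Equiv.Perm V) := H.map (MulAction.toPermHom (V ≃ₗ[K] V) V)

theorem toPerm_injective : Function.Injective (MulAction.toPermHom (V ≃ₗ[K] V) V) := by
  intro g h e
  ext v
  exact congrArg (fun f : Equiv.Perm V => f v) e

theorem mem_PH {H : Subgroup (V ≃ₗ[K] V)} {h : Equiv.Perm V} : h ∈ PH H ↔ ∃ g ∈ H, ∀ v, h v = g v := by
  constructor
  · rintro ⟨g, hg, rfl⟩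
    exact ⟨g, hg, fun v => rfl⟩
  · rintro ⟨g, hg, h1⟩
    exact ⟨g, hg, Equiv.ext fun v => (h1 v).symm⟩

theorem card_PH (H : Subgroup (V ≃ₗ[K] V)) : Nat.card (PH H) = Nat.card H :=
  (Nat.card_congr (H.equivMapOfInjective _ toPerm_injective).toEquiv).symm

/-- the determinant over an isomorphic field -/
theorem det_transport {F : Type} [Field F] [Module F V] (φ : K ≃+* F) (hφ : ∀ (c : K) (v : V), c • v = φ c • v)
    (g : V →ₗ[K] V) (g' : V →ₗ[F] V) (h : ∀ v, g' v = g v) : LinearMap.det g' = φ (LinearMap.det g) := by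
  have hV : Module.Finite K V := Module.Finite.of_finite
  let b := Module.finBasis K V
  let b' : Basis (Fin (finrank K V)) F V := b.mapCoeffs φ fun c x => (hφ c x).symm
  rw [← LinearMap.det_toMatrix b, ← LinearMap.det_toMatrix b', RingEquiv.map_det]
  congr 1
  ext i j
  rw [RingEquiv.mapMatrix_apply, Matrix.map_apply, LinearMap.toMatrix_apply, LinearMap.toMatrix_apply, h,
    show b' j = b j from Basis.mapCoeffs_apply _ _ _ _]
  rfl

variable {H : Subgroup (V ≃ₗ[K] V)}

/-- **Hering's theorem for subgroups of `GL_n(q)`, `n ≥ 5`.** -/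
theorem her (hn : 5 ≤ finrank K V) (hT : PTr H) :
    (∀ g : V ≃ₗ[K] V, LinearMap.det (g : V →ₗ[K] V) = 1 → g ∈ H) ∨ ExtO H ∨ SympO H ∨ GamO H ∨ ThiO H ∨ UniO H := by
  have hmain := Cfsg.Agent.H667.HerFin.action_of_main Cfsg.Agent.H50.Her.main Cfsg.Agent.H50.Her.altSix
    Cfsg.Agent.H50.Her.altSeven Cfsg.Agent.H50.Her.thirteen (K := K) (V := V) (Fintype.card K) (finrank K V) rfl rfl
    (by omega) (PH H) ?_ ?_ ?_
  · rcases hmain with h | h | h
    · -- `ΓL₁`
      obtain ⟨F, iF, iF', e, hc, h⟩ := h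
      refine Or.inr (Or.inr (Or.inr (Or.inl ⟨F, iF, iF', e, hc, fun h' hh => ?_⟩)))
      exact h (MulAction.toPermHom (V ≃ₗ[K] V) V h') ⟨h', hh, rfl⟩
    · obtain ⟨F, iF, iF', iM, φ, b, hφ, h2, hc, hb, hsem, hcase⟩ := h
      have hb0 : b ≠ 0 := by
        rintro rfl
        rw [mul_zero] at hb
        omega
      by_cases hb1 : b = 1
      · subst hb1
        rw [pow_one] at hc
        have hbij : Function.Bijective φ :=
          (Fintype.bijective_iff_injective_and_card φ).2 ⟨φ.injective, hc.symm⟩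
        let Φ : K ≃+* F := RingEquiv.ofBijective φ hbij
        have hΦ : ∀ (c : K) (v : V), c • v = Φ c • v := hφ
        have hΦ' : ∀ (c : F) (v : V), Φ.symm c • v = c • v := fun c v => by
          rw [hΦ, RingEquiv.apply_symm_apply]
        have hsymp : ∀ f : LinearMap.BilinForm F V, f.IsAlt → f.Nondegenerate →
            (∀ h ∈ PH H, ∀ σ : F ≃+* F, (∀ (c : F) (v : V), h (c • v) = σ c • h v) →
              ∃ μ : F, ∀ u v, f (h u) (h v) = μ * σ (f u v)) → SympO H := by
          intro f ha hn' hs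
          refine ⟨LinearMap.mk₂ K (fun u v => Φ.symm (f u v)) (fun u u' v => by simp) (fun c u v => ?_)
            (fun u v v' => by simp) (fun c u v => ?_), fun v => ?_, fun u hu => ?_, fun h hh => ?_⟩
          · rw [hΦ, map_smul, LinearMap.smul_apply, smul_eq_mul, map_mul, RingEquiv.symm_apply_apply, smul_eq_mul]
          · rw [hΦ, map_smul, smul_eq_mul, map_mul, RingEquiv.symm_apply_apply, smul_eq_mul]
          · rw [LinearMap.mk₂_apply, ha v, map_zero]
          · refine hn'.1 u fun v => ?_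
            have := hu v
            rw [LinearMap.mk₂_apply] at this
            rwa [map_eq_zero_iff _ Φ.symm.injective] at this
          · obtain ⟨μ, hμ⟩ := hs (MulAction.toPermHom (V ≃ₗ[K] V) V h) ⟨h, hh, rfl⟩ (RingEquiv.refl F) (by
              intro c v
              change h (c • v) = c • h v
              rw [← hΦ', map_smul, hΦ'])
            refine ⟨Φ.symm μ, fun u v => ?_⟩
            rw [LinearMap.mk₂_apply, LinearMap.mk₂_apply, ← map_mul]
            exact congrArg _ (hμ u v)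
        rcases hcase with h1 | ⟨f, ha, hn', -, hs⟩ | ⟨-, -, -, f, ha, hn', hs, -⟩
        · left
          intro g hg
          have hlin : ∀ (c : F) (v : V), g (c • v) = c • g v := fun c v => by rw [← hΦ', map_smul, hΦ']
          let g' : V ≃ₗ[F] V := { g with map_smul' := hlin }
          obtain ⟨h, hh, e⟩ := h1 g' (by
            apply Units.ext
            rw [LinearEquiv.coe_det, det_transport Φ hΦ (g : V →ₗ[K] V) (g' : V →ₗ[F] V) (fun v => rfl), hg, map_one]
            rfl)
          obtain ⟨g₁, hg₁, e'⟩ := mem_PH.1 hh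
          have : g₁ = g := by
            ext v
            rw [← e', e]
            rfl
          rwa [← this]
        · exact Or.inr (Or.inr (Or.inl (hsymp f ha hn' hs)))
        · exact Or.inr (Or.inr (Or.inl (hsymp f ha hn' hs)))
      · refine Or.inr (Or.inl ⟨F, iF, iF', iM, φ, b, hφ, by omega, hc, ⟨_, by rw [mul_comm]; exact hb.symm⟩,
          fun h hh => ?_⟩)
        exact hsem (MulAction.toPermHom (V ≃ₗ[K] V) V h) ⟨h, hh, rfl⟩
    · rcases h with ⟨h, -⟩ | ⟨h, -⟩ | ⟨h, -⟩ | ⟨h, -⟩ | ⟨h1, h2, ⟨e⟩⟩ | ⟨h1, h2, E, iE, iE', hE, N, hN, ⟨e⟩⟩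
      · omega
      · omega
      · omega
      · omega
      · refine Or.inr (Or.inr (Or.inr (Or.inr (Or.inl ⟨h1, h2, ?_⟩))))
        rw [← card_PH, Nat.card_congr e.toEquiv, Cfsg.Agent.H91.HerCons.card_SL_thirteen]
      · refine Or.inr (Or.inr (Or.inr (Or.inr (Or.inr ⟨h1, h2,
          (N.map (PH H).subtype).comap (MulAction.toPermHom (V ≃ₗ[K] V) V), ?_, ?_, ?_⟩))))
        · rintro x ⟨y, hy, hyx⟩
          obtain ⟨g, hg, e'⟩ := y.2
          have : g = x := toPerm_injective (e'.trans hyx)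
          rwa [← this]
        · rintro h hh x ⟨y, hy, hyx⟩
          let h' : PH H := ⟨MulAction.toPermHom (V ≃ₗ[K] V) V h, ⟨h, hh, rfl⟩⟩
          refine ⟨h' * y * h'⁻¹, hN.conj_mem y hy h', ?_⟩
          rw [map_mul, map_mul, map_inv, map_mul, map_mul, map_inv, hyx]
          rfl
        · rw [← Cfsg.Agent.SmallSimple.PSLFacts.card_psu_three_three hE, ← Nat.card_congr e.toEquiv]
          have h3 : N.map (PH H).subtype ≤ (MulAction.toPermHom (V ≃ₗ[K] V) V).range := by
            rintro _ ⟨y, -, rfl⟩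
            obtain ⟨g, hg, e'⟩ := y.2
            exact ⟨g, e'⟩
          have h4 : ((N.map (PH H).subtype).comap (MulAction.toPermHom (V ≃ₗ[K] V) V)).map
              (MulAction.toPermHom (V ≃ₗ[K] V) V) = N.map (PH H).subtype := by
            rw [Subgroup.map_comap_eq, inf_eq_right.2 h3]
          rw [Nat.card_congr (((N.map (PH H).subtype).comap (MulAction.toPermHom (V ≃ₗ[K] V) V)).equivMapOfInjective
            _ toPerm_injective).toEquiv, h4]
          exact (Nat.card_congr (N.equivMapOfInjective _ (PH H).subtype_injective).toEquiv).symm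
  · intro h hh v w
    obtain ⟨g, hg, e⟩ := mem_PH.1 hh
    rw [e, e, e, map_add]
  · intro h hh
    obtain ⟨g, hg, e⟩ := mem_PH.1 hh
    exact ⟨RingEquiv.refl K, fun c v => by rw [e, e, map_smul]; rfl⟩
  · intro v w hv hw
    obtain ⟨g, hg, c, e⟩ := hT v w hv hw
    exact ⟨MulAction.toPermHom (V ≃ₗ[K] V) V g, ⟨g, hg, rfl⟩, c, e⟩

end Cfsg.Agent.H184.Cov
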