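import Mathlib
import Cfsg.Agent.H184.Cov.Types
import Cfsg.Agent.H184.Cov.Her
import Cfsg.Agent.H184.Cov.Count

/-!
# S2499, linear groups: the overgroups of an element of type `(n - 1, 1)` (helper184)

`kside` : a subgroup of `GL(V)` containing `x = (ω, ν)` on `V = L × K`, `ω` a generator of `Lˣ`, is transitive on
the points, or fixes a point, or fixes a hyperplane.
-/

set_option autoImplicit false
set_option linter.unusedSectionVars false

namespace Cfsg.Agent.H184.Cov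

open Module

theorem double_sum {α β : Type*} [Finite α] [Finite β] (A : Set α) (B : Set β) (R : α → β → Prop) {a b : ℕ}
    (ha : ∀ x ∈ A, {y | y ∈ B ∧ R x y}.ncard = a) (hb : ∀ y ∈ B, {x | x ∈ A ∧ R x y}.ncard = b) :
    A.ncard * a = B.ncard * b := by
  classical
  have : Fintype α := Fintype.ofFinite α
  have : Fintype β := Fintype.ofFinite β
  have h := Finset.sum_card_bipartiteAbove_eq_sum_card_bipartiteBelow (s := A.toFinset) (t := B.toFinset) R
  have h1 : ∀ x ∈ A.toFinset, (Finset.bipartiteAbove R B.toFinset x).card = a := by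
    intro x hx
    rw [Set.mem_toFinset] at hx
    rw [← ha x hx, Set.ncard_eq_toFinset_card']
    congr 1
    ext y
    simp [Finset.mem_bipartiteAbove]
  have h2 : ∀ y ∈ B.toFinset, (Finset.bipartiteBelow R A.toFinset y).card = b := by
    intro y hy
    rw [Set.mem_toFinset] at hy
    rw [← hb y hy, Set.ncard_eq_toFinset_card']
    congr 1
    ext x
    simp [Finset.mem_bipartiteBelow]
  rw [Finset.sum_congr rfl h1, Finset.sum_congr rfl h2, Finset.sum_const, Finset.sum_const, smul_eq_mul,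
    smul_eq_mul, ← Set.ncard_eq_toFinset_card', ← Set.ncard_eq_toFinset_card'] at h
  exact h

theorem double_sum' {α β : Type*} [Finite α] [Finite β] (A : Set α) (B C : Set β) (hBC : Disjoint B C)
    (R : α → β → Prop) {a b c : ℕ} (ha : ∀ x ∈ A, {y | y ∈ B ∪ C ∧ R x y}.ncard = a)
    (hb : ∀ y ∈ B, {x | x ∈ A ∧ R x y}.ncard = b) (hc : ∀ y ∈ C, {x | x ∈ A ∧ R x y}.ncard = c) :
    A.ncard * a = B.ncard * b + C.ncard * c := by
  classical
  have : Fintype α := Fintype.ofFinite α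
  have : Fintype β := Fintype.ofFinite β
  have h := Finset.sum_card_bipartiteAbove_eq_sum_card_bipartiteBelow (s := A.toFinset)
    (t := B.toFinset ∪ C.toFinset) R
  have h1 : ∀ x ∈ A.toFinset, (Finset.bipartiteAbove R (B.toFinset ∪ C.toFinset) x).card = a := by
    intro x hx
    rw [Set.mem_toFinset] at hx
    rw [← ha x hx, Set.ncard_eq_toFinset_card']
    congr 1
    ext y
    simp [Finset.mem_bipartiteAbove, or_and_right]
  have h2 : ∀ y ∈ B.toFinset, (Finset.bipartiteBelow R A.toFinset y).card = b := by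
    intro y hy
    rw [Set.mem_toFinset] at hy
    rw [← hb y hy, Set.ncard_eq_toFinset_card']
    congr 1
    ext x
    simp [Finset.mem_bipartiteBelow]
  have h3 : ∀ y ∈ C.toFinset, (Finset.bipartiteBelow R A.toFinset y).card = c := by
    intro y hy
    rw [Set.mem_toFinset] at hy
    rw [← hc y hy, Set.ncard_eq_toFinset_card']
    congr 1
    ext x
    simp [Finset.mem_bipartiteBelow]
  rw [Finset.sum_union (by simpa using hBC), Finset.sum_congr rfl h1, Finset.sum_congr rfl h2,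
    Finset.sum_congr rfl h3, Finset.sum_const, Finset.sum_const, Finset.sum_const, smul_eq_mul,
    smul_eq_mul, smul_eq_mul, ← Set.ncard_eq_toFinset_card', ← Set.ncard_eq_toFinset_card',
    ← Set.ncard_eq_toFinset_card'] at h
  exact h

/-- the arithmetic -/
theorem arith {m X i j : ℕ} (hm : 1 ≤ m) (hX : (m + 1) * (m + 1) ≤ X) (hi : i ≤ m) (hj : j ≤ m)
    (h : (1 + i) * (m + j * (X - 1)) = m + j * ((m + 1) * X - 1)) : j = 0 ∨ i = m := by
  by_contra hcon
  push Not at hcon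
  obtain ⟨Y, rfl⟩ : ∃ Y, X = Y + 1 := ⟨X - 1, by
    have : 0 < (m + 1) * (m + 1) := by positivity
    omega⟩
  obtain ⟨r, hr⟩ : ∃ r, m = i + r + 1 := ⟨m - i - 1, by omega⟩
  obtain ⟨s, rfl⟩ : ∃ s, j = s + 1 := ⟨j - 1, by omega⟩
  obtain ⟨u, hu⟩ : ∃ u, m = s + 1 + u := ⟨m - (s + 1), by omega⟩
  have h1 : (m + 1) * (Y + 1) - 1 = (m + 1) * Y + m := by
    have : (m + 1) * (Y + 1) = (m + 1) * Y + m + 1 := by ring
    omega
  rw [h1, Nat.add_sub_cancel] at h
  -- `i (m - j) = j X (m - i)`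
  have h2 : i * u = (s + 1) * (Y + 1) * (r + 1) := by
    have h3 : i * u + ((1 + i) * (s + 1) * Y + i * (s + 1) + m + (s+1) * m * 0) =
        (s + 1) * (Y + 1) * (r + 1) + ((1 + i) * (s + 1) * Y + i * (s + 1) + m) := by
      have h4 : (1 + i) * (m + (s + 1) * Y) = m + i * (s + 1 + u) + (1 + i) * (s + 1) * Y := by
        conv_lhs => rw [mul_add, add_mul, one_mul]
        conv_lhs => enter [1, 2, 2]; rw [hu]
        ring
      have h5 : m + (s + 1) * ((m + 1) * Y + m) = m + (s + 1) * ((i + r + 1 + 1) * Y + (i + r + 1)) := by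
        rw [hr]
      rw [h4, h5] at h
      linarith [h]
    omega
  have h3 : i * u ≤ m * m := Nat.mul_le_mul (by omega) (by omega)
  have h4 : (Y + 1) * 1 ≤ (s + 1) * (Y + 1) * (r + 1) := by
    refine Nat.mul_le_mul ?_ (by omega)
    calc Y + 1 = 1 * (Y + 1) := (one_mul _).symm
      _ ≤ (s + 1) * (Y + 1) := Nat.mul_le_mul_right _ (by omega)
  have h5 : (m + 1) * (m + 1) = m * m + 2 * m + 1 := by ring
  omega

variable {K : Type} [Field K] [Finite K] {V : Type} [AddCommGroup V] [Module K V] [Finite V]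
  {L : Type} [Field L] [Algebra K L] [Finite L]

theorem mul_mem_dual {H : Subgroup (V ≃ₗ[K] V)} (φ0 : Dual K V) :
    ∀ h ∈ H, ∀ φ : Dual K V, (∃ c : K, c ≠ 0 ∧ ∃ k ∈ H, ∀ v, φ v = c * φ0 (k v)) →
      ∃ c : K, c ≠ 0 ∧ ∃ k ∈ H, ∀ v, (φ ∘ₗ (h : V →ₗ[K] V)) v = c * φ0 (k v) := by
  rintro h hh φ ⟨c, hc, k, hk, hφ⟩
  exact ⟨c, hc, k * h, H.mul_mem hk hh, fun v => hφ (h v)⟩

theorem kside {H : Subgroup (V ≃ₗ[K] V)} {x : V ≃ₗ[K] V} (hx : x ∈ H) {ω : Lˣ} {ν : Kˣ} (hω : IsGen ω)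
    (ht : TwoT L K x ω ν) (hk : 3 ≤ finrank K L) :
    (∀ v w : V, v ≠ 0 → w ≠ 0 → ∃ h ∈ H, ∃ c : K, h v = c • w) ∨
      (∃ v, v ≠ 0 ∧ ∀ h ∈ H, ∃ c : K, h v = c • v) ∨
      (∃ φ : Dual K V, φ ≠ 0 ∧ ∀ h ∈ H, ∃ c : K, ∀ v, φ (h v) = c * φ v) := by
  classical
  obtain ⟨e, he⟩ := ht
  obtain ⟨ℓ, hℓ⟩ := exists_form (K := K) (L := L)
  obtain ⟨e', he'⟩ := exists_dual e hℓ
  have hfin : Module.Finite K V := Module.Finite.of_finite
  have hfinL : Module.Finite K L := Module.Finite.of_finite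
  have hfinD : Finite (Dual K V) := Module.finite_of_finite K
  -- the action of `x` on the dual space
  have hx' : ∀ φ : Dual K V, e' (x.dualMap φ) = ((ω : L) * (e' φ).1, (ν : K) * (e' φ).2) := by
    intro φ
    have h1 : x.dualMap φ = e'.symm ((ω : L) * (e' φ).1, (ν : K) * (e' φ).2) := by
      ext v
      rw [LinearEquiv.dualMap_apply, he' φ (x v), he' (e'.symm _) v, LinearEquiv.apply_symm_apply, he]
      change ℓ ((e' φ).1 * ((ω : L) * (e v).1)) + (e' φ).2 * ((ν : K) * (e v).2) =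
        ℓ ((ω : L) * (e' φ).1 * (e v).1) + (ν : K) * (e' φ).2 * (e v).2
      rw [show (e' φ).1 * ((ω : L) * (e v).1) = (ω : L) * (e' φ).1 * (e v).1 by ring]
      ring
    rw [h1, LinearEquiv.apply_symm_apply]
  obtain ⟨φ0, hφ0⟩ : ∃ φ0, φ0 = e'.symm (0, 1) := ⟨_, rfl⟩
  have hφ0' : ∀ v, φ0 v = (e v).2 := by
    intro v
    rw [he', hφ0, LinearEquiv.apply_symm_apply, zero_mul, map_zero, zero_add, one_mul]
  have hφ00 : φ0 ≠ 0 := by
    rw [hφ0, Ne, LinearEquiv.map_eq_zero_iff]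
    intro h
    exact one_ne_zero (congrArg Prod.snd h)
  let B : Set (Dual K V) := {φ | ∃ c : K, c ≠ 0 ∧ ∃ k ∈ H, ∀ v, φ v = c * φ0 (k v)}
  have hB0 : ∀ φ ∈ B, φ ≠ 0 := by
    rintro φ ⟨c, hc, k, hk, hφ⟩ rfl
    apply hφ00
    ext v
    have h1 := hφ (k.symm v)
    rw [LinearMap.zero_apply, LinearEquiv.apply_symm_apply] at h1
    rw [LinearMap.zero_apply]
    exact (mul_eq_zero.1 h1.symm).resolve_left hc
  have hBc : ∀ (c : K), c ≠ 0 → ∀ φ ∈ B, c • φ ∈ B := by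
    rintro c hc φ ⟨d, hd, k, hk, hφ⟩
    exact ⟨c * d, mul_ne_zero hc hd, k, hk, fun v => by
      rw [LinearMap.smul_apply, hφ, smul_eq_mul, mul_assoc]⟩
  have hBH : ∀ h ∈ H, ∀ φ ∈ B, φ ∘ₗ (h : V →ₗ[K] V) ∈ B := mul_mem_dual φ0
  have hBx : ∀ φ ∈ B, x.dualMap φ ∈ B := hBH x hx
  have hφ0B : φ0 ∈ B := ⟨1, one_ne_zero, 1, H.one_mem, fun v => by rw [one_mul]; rfl⟩
  let A : Set V := {v | v ≠ 0 ∧ ∃ φ ∈ B, φ v = 0}
  have hAc : ∀ (c : K), c ≠ 0 → ∀ v ∈ A, c • v ∈ A := by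
    rintro c hc v ⟨hv, φ, hφ, h⟩
    exact ⟨smul_ne_zero hc hv, φ, hφ, by rw [map_smul, h, smul_zero]⟩
  have hAH : ∀ h ∈ H, ∀ v ∈ A, h v ∈ A := by
    rintro h hh v ⟨hv, φ, hφ, h0⟩
    refine ⟨by rwa [Ne, LinearEquiv.map_eq_zero_iff], _, hBH h⁻¹ (H.inv_mem hh) φ hφ, ?_⟩
    change φ (h.symm (h v)) = 0
    rw [LinearEquiv.symm_apply_apply, h0]
  -- powers of `x`
  have hxpow : ∀ a b : L, a ≠ 0 → b ≠ 0 → ∃ i : ℕ, ((ω ^ i : Lˣ) : L) * a = b := by
    intro a b ha hb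
    obtain ⟨i, hi⟩ := hω.exists_pow (Units.mk0 b hb / Units.mk0 a ha)
    refine ⟨i, ?_⟩
    rw [hi, Units.val_div_eq_div_val, Units.val_mk0, Units.val_mk0, div_mul_cancel₀ _ ha]
  have hAt : ∀ v ∈ A, ∀ w ∈ A, ∃ h ∈ H, h v = w := by
    rintro v ⟨hv, φ, ⟨c, hc, k, hk, hφ⟩, h⟩ w ⟨hw, φ', ⟨c', hc', k', hk', hφ'⟩, h'⟩
    rw [hφ, hφ0'] at h
    rw [hφ', hφ0'] at h'
    have h1 := (mul_eq_zero.1 h).resolve_left hc
    have h1' := (mul_eq_zero.1 h').resolve_left hc'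
    have h2 : (e (k v)).1 ≠ 0 := by
      intro h3
      apply hv
      rw [← LinearEquiv.map_eq_zero_iff k, ← LinearEquiv.map_eq_zero_iff e]
      exact Prod.ext h3 h1
    have h2' : (e (k' w)).1 ≠ 0 := by
      intro h3
      apply hw
      rw [← LinearEquiv.map_eq_zero_iff k', ← LinearEquiv.map_eq_zero_iff e]
      exact Prod.ext h3 h1'
    obtain ⟨i, hi⟩ := hxpow _ _ h2 h2'
    refine ⟨k'⁻¹ * x ^ i * k, H.mul_mem (H.mul_mem (H.inv_mem hk') (H.pow_mem hx i)) hk, ?_⟩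
    change k'.symm ((x ^ i) (k v)) = w
    rw [LinearEquiv.symm_apply_eq]
    apply e.injective
    rw [twoT_pow he, hi, h1, mul_zero, ← h1']
  -- the first case
  by_cases hcase : ∃ φ ∈ B, (e' φ).2 = 0
  · left
    obtain ⟨φ, hφ, hd⟩ := hcase
    have hall : ∀ v, v ≠ 0 → v ∈ A := by
      intro v hv
      by_cases ha : (e v).1 = 0
      · exact ⟨hv, φ, hφ, by rw [he', ha, hd, mul_zero, map_zero, zero_mul, zero_add]⟩
      · have hb : (e' φ).1 ≠ 0 := by
          intro h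
          apply hB0 φ hφ
          rw [← LinearEquiv.map_eq_zero_iff e']
          exact Prod.ext h hd
        obtain ⟨a0, ha0, ha0'⟩ : ∃ a : L, a ≠ 0 ∧ ℓ a = 0 := by
          have h1 : finrank K K < finrank K L := by rw [finrank_self]; omega
          have h3 := LinearMap.ker_ne_bot_of_finrank_lt (f := ℓ) h1
          obtain ⟨a, h4, h5⟩ := (Submodule.ne_bot_iff _).1 h3
          exact ⟨a, h5, h4⟩
        obtain ⟨i, hi⟩ := hxpow _ ((e' φ).1⁻¹ * a0) ha (mul_ne_zero (inv_ne_zero hb) ha0)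
        refine ⟨hv, _, hBH (x ^ i) (H.pow_mem hx i) φ hφ, ?_⟩
        change φ ((x ^ i) v) = 0
        rw [he', twoT_pow he, hi, hd, zero_mul, add_zero, mul_inv_cancel_left₀ hb, ha0']
    intro v w hv hw
    obtain ⟨h, hh, hhv⟩ := hAt v (hall v hv) w (hall w hw)
    exact ⟨h, hh, 1, by rw [hhv, one_smul]⟩
  right
  push Not at hcase
  -- the counts
  obtain ⟨q, hq⟩ : ∃ q, q = Nat.card K := ⟨_, rfl⟩
  obtain ⟨Q, hQ⟩ : ∃ Q, Q = Nat.card K ^ finrank K L := ⟨_, rfl⟩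
  obtain ⟨X, hX⟩ : ∃ X, X = Nat.card K ^ (finrank K L - 1) := ⟨_, rfl⟩
  have hq1 : 1 < q := by rw [hq]; exact one_lt_q
  have hQX : Q = q * X := by
    rw [hQ, hX, hq, ← pow_succ']
    congr 1
    omega
  have hXq : q * q ≤ X := by
    rw [hX, ← hq, ← pow_two]
    exact Nat.pow_le_pow_right (by omega) (by omega)
  have hdim : finrank K V = finrank K L + 1 := by
    rw [e.finrank_eq, Module.finrank_prod, finrank_self]
  let B0 : Set (Dual K V) := {φ | φ ∈ B ∧ (e' φ).1 = 0}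
  let B1 : Set (Dual K V) := {φ | φ ∈ B ∧ (e' φ).1 ≠ 0}
  have hBu : B = B0 ∪ B1 := by
    ext φ
    constructor
    · intro h
      by_cases h1 : (e' φ).1 = 0
      · exact Or.inl ⟨h, h1⟩
      · exact Or.inr ⟨h, h1⟩
    · rintro (h | h)
      · exact h.1
      · exact h.1
  have hBd : Disjoint B0 B1 := by
    rw [Set.disjoint_left]
    rintro φ ⟨-, h1⟩ ⟨-, h2⟩
    exact h2 h1
  have hB0c : B0.ncard = q - 1 := by
    rw [← Nat.card_coe_set_eq, hq, ← card_units_base]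
    refine Nat.card_congr ?_
    exact
      { toFun := fun φ => Units.mk0 (e' φ).2 (hcase φ φ.2.1)
        invFun := fun c => ⟨(c : K) • φ0, hBc c c.ne_zero φ0 hφ0B, by
          rw [map_smul, hφ0, LinearEquiv.apply_symm_apply]
          exact smul_zero _⟩
        left_inv := fun φ => by
          apply Subtype.ext
          apply e'.injective
          change e' ((e' φ).2 • φ0) = e' φ
          rw [map_smul, hφ0, LinearEquiv.apply_symm_apply]
          exact Prod.ext (by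
            change (e' φ).2 • (0 : L) = (e' φ).1
            rw [smul_zero, φ.2.2]) (mul_one _)
        right_inv := fun c => by
          apply Units.ext
          change (e' ((c : K) • φ0)).2 = c
          rw [map_smul, hφ0, LinearEquiv.apply_symm_apply]
          exact mul_one _ }
  obtain ⟨j, hj, hB1c, -⟩ := count_pts (y := x.dualMap) hω hx' B1 (fun φ h => ⟨h.2, hcase φ h.1⟩)
    (fun c hc φ h => ⟨hBc c hc φ h.1, by
      rw [map_smul]
      exact smul_ne_zero hc h.2⟩)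
    (fun φ h => ⟨hBx φ h.1, by
      rw [hx']
      exact mul_ne_zero ω.ne_zero h.2⟩)
  let U : Set V := {v | v ≠ 0 ∧ (e v).2 = 0}
  let A1 : Set V := {v | v ∈ A ∧ (e v).2 ≠ 0}
  have hUA : U ⊆ A := fun v hv => ⟨hv.1, φ0, hφ0B, by rw [hφ0']; exact hv.2⟩
  have hAu : A = U ∪ A1 := by
    ext v
    constructor
    · intro h
      by_cases h1 : (e v).2 = 0
      · exact Or.inl ⟨h.1, h1⟩
      · exact Or.inr ⟨h, h1⟩
    · rintro (h | h)
      · exact hUA h
      · exact h.1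
  have hAd : Disjoint U A1 := by
    rw [Set.disjoint_left]
    rintro φ ⟨-, h1⟩ ⟨-, h2⟩
    exact h2 h1
  have hUc : U.ncard = Q - 1 := by
    have h1 : U = {v : V | v ≠ 0 ∧ φ0 v = 0} := by
      ext v
      simp only [U, hφ0']
    rw [h1, card_ker hφ00, hdim, hQ, Nat.add_sub_cancel]
  have hA0 : ∀ v ∈ A, (e v).1 ≠ 0 := by
    rintro v ⟨hv, φ, hφ, h⟩ h1
    rw [he', h1, mul_zero, map_zero, zero_add] at h
    apply hv
    rw [← LinearEquiv.map_eq_zero_iff e]
    exact Prod.ext h1 ((mul_eq_zero.1 h).resolve_left (hcase φ hφ))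
  obtain ⟨i, hi, hA1c, hAll⟩ := count_pts hω he A1 (fun v h => ⟨hA0 v h.1, h.2⟩)
    (fun c hc v h => ⟨hAc c hc v h.1, by
      rw [map_smul]
      exact smul_ne_zero hc h.2⟩)
    (fun v h => ⟨hAH x hx v h.1, by
      rw [he]
      exact mul_ne_zero ν.ne_zero h.2⟩)
  rw [← hQ] at hB1c hA1c
  rw [← hq] at hj hi hAll
  have hAcard : A.ncard = (1 + i) * (Q - 1) := by
    rw [hAu, Set.ncard_union_eq hAd, hUc, hA1c]
    ring
  have hBcard : B.ncard = (q - 1) + j * (Q - 1) := by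
    rw [hBu, Set.ncard_union_eq hBd, hB0c, hB1c]
  -- the number of hyperplanes through a point
  obtain ⟨Λ, hΛ⟩ : ∃ Λ, ∀ v ∈ A, {φ | φ ∈ B ∧ φ v = 0}.ncard = Λ := by
    obtain ⟨v0, hv0⟩ : ∃ v0, v0 ∈ U := by
      have : 0 < U.ncard := by
        rw [hUc, hQX]
        have : 2 * 1 ≤ q * X := Nat.mul_le_mul hq1 (by nlinarith)
        omega
      exact Set.nonempty_of_ncard_ne_zero this.ne'
    refine ⟨{φ | φ ∈ B ∧ φ v0 = 0}.ncard, fun v hv => ?_⟩
    obtain ⟨h, hh, hhv⟩ := hAt v hv v0 (hUA hv0)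
    refine Set.ncard_congr (fun φ _ => φ ∘ₗ ((h⁻¹ : V ≃ₗ[K] V) : V →ₗ[K] V)) ?_ ?_ ?_
    · rintro φ ⟨h1, h2⟩
      refine ⟨hBH _ (H.inv_mem hh) φ h1, ?_⟩
      change φ (h.symm v0) = 0
      rw [← hhv, LinearEquiv.symm_apply_apply, h2]
    · intro φ φ' _ _ h1
      ext w
      have h2 := congrArg (fun f : V →ₗ[K] K => f (h w)) h1
      change φ (h.symm (h w)) = φ' (h.symm (h w)) at h2
      rwa [LinearEquiv.symm_apply_apply] at h2
    · rintro φ ⟨h1, h2⟩
      refine ⟨φ ∘ₗ (h : V →ₗ[K] V), ⟨hBH h hh φ h1, ?_⟩, ?_⟩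
      · change φ (h v) = 0
        rw [hhv, h2]
      · ext w
        change φ (h (h.symm w)) = φ w
        rw [LinearEquiv.apply_symm_apply]
  -- the double counts
  have hd1 : A.ncard * Λ = B.ncard * (Q - 1) := by
    refine double_sum A B (fun v φ => φ v = 0) hΛ fun φ hφ => ?_
    have h1 : {v | v ∈ A ∧ φ v = 0} = {v : V | v ≠ 0 ∧ φ v = 0} := by
      ext v
      exact ⟨fun h => ⟨h.1.1, h.2⟩, fun h => ⟨⟨h.1, φ, hφ, h.2⟩, h.2⟩⟩
    rw [h1, card_ker (hB0 φ hφ), hdim, hQ, Nat.add_sub_cancel]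
  have hd2 : U.ncard * Λ = B0.ncard * (Q - 1) + B1.ncard * (X - 1) := by
    refine double_sum' U B0 B1 hBd (fun v φ => φ v = 0) (fun v hv => ?_) (fun φ hφ => ?_) fun φ hφ => ?_
    · rw [← hBu]
      exact hΛ v (hUA hv)
    · have h1 : {v | v ∈ U ∧ φ v = 0} = U := by
        ext v
        refine ⟨fun h => h.1, fun h => ⟨h, ?_⟩⟩
        rw [he', hφ.2, zero_mul, map_zero, zero_add, h.2, mul_zero]
      rw [h1, hUc]
    · -- the form on `L`
      let ψ : L →ₗ[K] K := φ ∘ₗ (e.symm : L × K →ₗ[K] V) ∘ₗ LinearMap.inl K L K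
      have hψ : ∀ a, ψ a = φ (e.symm (a, 0)) := fun a => rfl
      have hψ0 : ψ ≠ 0 := by
        intro h
        apply hℓ
        ext a
        have h1 := congrArg (fun f : L →ₗ[K] K => f ((e' φ).1⁻¹ * a)) h
        simp only [LinearMap.zero_apply, hψ] at h1
        rw [he', LinearEquiv.apply_symm_apply, mul_zero, add_zero, mul_inv_cancel_left₀ hφ.2] at h1
        rw [h1, LinearMap.zero_apply]
      have h1 : {v | v ∈ U ∧ φ v = 0}.ncard = {a : L | a ≠ 0 ∧ ψ a = 0}.ncard := by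
        refine Set.ncard_congr (fun v _ => (e v).1) ?_ ?_ ?_
        · rintro v ⟨⟨hv, h1⟩, h2⟩
          refine ⟨fun h3 => hv ?_, ?_⟩
          · rw [← LinearEquiv.map_eq_zero_iff e]
            exact Prod.ext h3 h1
          · have h4 : ((e v).1, (0 : K)) = e v := Prod.ext rfl h1.symm
            change ψ (e v).1 = 0
            rw [hψ, h4, LinearEquiv.symm_apply_apply, h2]
        · rintro v w ⟨⟨-, h1⟩, -⟩ ⟨⟨-, h2⟩, -⟩ h3
          exact e.injective (Prod.ext h3 (h1.trans h2.symm))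
        · rintro a ⟨h1, h2⟩
          refine ⟨e.symm (a, 0), ⟨⟨?_, by rw [LinearEquiv.apply_symm_apply]⟩, h2⟩, by
            rw [LinearEquiv.apply_symm_apply]⟩
          rw [Ne, LinearEquiv.map_eq_zero_iff]
          exact fun h3 => h1 (congrArg Prod.fst h3)
      rw [h1, card_ker hψ0, hX]
  have hQ1 : 0 < Q - 1 := by
    rw [hQX]
    have : 2 * 1 ≤ q * X := Nat.mul_le_mul hq1 (by nlinarith)
    omega
  have hΛ' : Λ = (q - 1) + j * (X - 1) := by
    rw [hUc, hB0c, hB1c] at hd2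
    have h1 : (Q - 1) * Λ = (Q - 1) * ((q - 1) + j * (X - 1)) := by
      rw [hd2]
      ring
    exact Nat.eq_of_mul_eq_mul_left hQ1 h1
  have hfinal : (1 + i) * ((q - 1) + j * (X - 1)) = (q - 1) + j * (q * X - 1) := by
    rw [hAcard, hBcard, hΛ'] at hd1
    have h1 : (Q - 1) * ((1 + i) * ((q - 1) + j * (X - 1))) = (Q - 1) * ((q - 1) + j * (Q - 1)) := by
      rw [mul_comm (Q - 1) ((q - 1) + j * (Q - 1)), ← hd1]
      ring
    rw [Nat.eq_of_mul_eq_mul_left hQ1 h1, hQX]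
  obtain ⟨m, rfl⟩ : ∃ m, q = m + 1 := ⟨q - 1, by omega⟩
  rw [Nat.add_sub_cancel] at hfinal hi hj hAll
  rcases arith (by omega) hXq hi hj hfinal with h | h
  · -- a fixed hyperplane
    right
    refine ⟨φ0, hφ00, fun h' hh => ?_⟩
    have h1 : φ0 ∘ₗ (h' : V →ₗ[K] V) ∈ B := hBH h' hh φ0 hφ0B
    have h2 : φ0 ∘ₗ (h' : V →ₗ[K] V) ∉ B1 := by
      rw [h, zero_mul, Set.ncard_eq_zero] at hB1c
      rw [hB1c]
      exact Set.notMem_empty _
    have h3 : (e' (φ0 ∘ₗ (h' : V →ₗ[K] V))).1 = 0 := by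
      by_contra hcon
      exact h2 ⟨h1, hcon⟩
    refine ⟨(e' (φ0 ∘ₗ (h' : V →ₗ[K] V))).2, fun v => ?_⟩
    have h4 : φ0 (h' v) = (φ0 ∘ₗ (h' : V →ₗ[K] V)) v := rfl
    rw [h4, he', h3, zero_mul, map_zero, zero_add, hφ0']
  · -- a fixed point
    left
    refine ⟨e.symm (0, 1), ?_, fun h' hh => ?_⟩
    · rw [Ne, LinearEquiv.map_eq_zero_iff]
      intro h1
      exact one_ne_zero (congrArg Prod.snd h1)
    · have hP : e.symm (0, 1) ∉ A := fun h1 => hA0 _ h1 (by rw [LinearEquiv.apply_symm_apply])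
      have h1 : h' (e.symm (0, 1)) ∉ A := by
        intro h2
        apply hP
        have h3 := hAH h'⁻¹ (H.inv_mem hh) _ h2
        change h'.symm (h' _) ∈ A at h3
        rwa [LinearEquiv.symm_apply_apply] at h3
      have h2 : (e (h' (e.symm (0, 1)))).1 = 0 := by
        by_contra hcon
        apply h1
        by_cases h3 : (e (h' (e.symm (0, 1)))).2 = 0
        · refine hUA ⟨?_, h3⟩
          rw [Ne, LinearEquiv.map_eq_zero_iff, LinearEquiv.map_eq_zero_iff]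
          intro h4
          exact one_ne_zero (congrArg Prod.snd h4)
        · exact (hAll h _ hcon h3).1
      refine ⟨(e (h' (e.symm (0, 1)))).2, ?_⟩
      apply e.injective
      rw [map_smul, LinearEquiv.apply_symm_apply]
      exact Prod.ext (by
        change _ = (e (h' (e.symm (0, 1)))).2 • (0 : L)
        rw [h2, smul_zero]) (mul_one _).symm

end Cfsg.Agent.H184.Cov
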