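import Mathlib
import Cfsg.Agent.H184.Cov.Types
import Cfsg.Agent.H184.Cov.Her

/-!
# S2499, linear groups: extension fields (helper184)

`ext_dvd` : if the group preserves an `F`-structure, `|F| = q ^ b`, and contains `g = (ω, ν)` with `P(ω ^ b) ≠ 0`,
`P(ν ^ b) = 0` for a polynomial `P`, then `b` divides `dim M`.
-/

set_option autoImplicit false
set_option linter.unusedSectionVars false

namespace Cfsg.Agent.H184.Cov

open Module Polynomial

variable {K : Type} [Field K] [Fintype K] {V : Type} [AddCommGroup V] [Module K V] [Finite V]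

section

variable {F : Type} [Field F] [Fintype F] [Module F V]

/-- `g ^ b` is `F`-linear -/
theorem lin_pow {φ : K →+* F} {b : ℕ} (hφ : ∀ (c : K) (v : V), c • v = φ c • v)
    (hc : Fintype.card F = Fintype.card K ^ b) [Nontrivial V] {g : V ≃ₗ[K] V} {σ : F ≃+* F}
    (hσ : ∀ (c : F) (v : V), g (c • v) = σ c • g v) (c : F) (v : V) : (g ^ b) (c • v) = c • (g ^ b) v := by
  obtain ⟨v0, hv0⟩ := exists_ne (0 : V)
  have hfix : ∀ c : K, σ (φ c) = φ c := by
    intro c
    have h1 := hσ (φ c) v0
    rw [← hφ, map_smul, hφ] at h1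
    have h2 : g v0 ≠ 0 := by rwa [Ne, LinearEquiv.map_eq_zero_iff]
    exact (smul_left_injective F h2 h1).symm
  have hpow : ∀ (i : ℕ) (c : F) (v : V), (g ^ i) (c • v) = (σ ^ i) c • (g ^ i) v := by
    intro i
    induction i with
    | zero => intro c v; rfl
    | succ i ih =>
      intro c v
      rw [pow_succ, pow_succ]
      change (g ^ i) (g (c • v)) = (σ ^ i) (σ c) • (g ^ i) (g v)
      rw [hσ, ih]
  letI : Algebra K F := φ.toAlgebra
  let σ' : F ≃ₐ[K] F := AlgEquiv.ofRingEquiv (f := σ) hfix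
  have hfin : Module.Finite K F := Module.Finite.of_finite
  have hfr : finrank K F = b := by
    have h1 := Module.card_eq_pow_finrank (K := K) (V := F)
    rw [hc] at h1
    exact (Nat.pow_right_injective (Fintype.one_lt_card (α := K)) h1).symm
  have hcard : Nat.card (F ≃ₐ[K] F) = b := by
    have h1 : Nat.card Gal(F/K) = finrank K F := IsGalois.card_aut_eq_finrank K F
    rw [← hfr, ← h1]
  have h1 : σ' ^ b = 1 := by
    rw [← hcard]
    exact pow_card_eq_one'
  have h2 : ∀ (i : ℕ) (c : F), (σ' ^ i) c = (σ ^ i) c := by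
    intro i
    induction i with
    | zero => intro c; rfl
    | succ i ih =>
      intro c
      rw [pow_succ, pow_succ]
      change (σ' ^ i) (σ c) = (σ ^ i) (σ c)
      rw [ih]
  rw [hpow, ← h2, h1]
  rfl

/-- the dimension of an `F`-subspace -/
theorem dvd_finrank {φ : K →+* F} {b : ℕ} (hφ : ∀ (c : K) (v : V), c • v = φ c • v)
    (hc : Fintype.card F = Fintype.card K ^ b) (W : Submodule K V) (hW : ∀ (c : F), ∀ v ∈ W, c • v ∈ W) :
    b ∣ finrank K W := by
  let W' : Submodule F V := { W with smul_mem' := fun c v hv => hW c v hv }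
  have h1 : Nat.card W = Fintype.card K ^ finrank K W := by
    have : Module.Finite K W := Module.Finite.of_finite
    rw [← Nat.card_eq_fintype_card]
    exact Module.natCard_eq_pow_finrank
  have h2 : Nat.card W' = Fintype.card F ^ finrank F W' := by
    have : Module.Finite F W' := Module.Finite.of_finite
    rw [← Nat.card_eq_fintype_card]
    exact Module.natCard_eq_pow_finrank
  have h3 : Nat.card W = Nat.card W' := rfl
  rw [h1, h2, hc, ← pow_mul] at h3
  exact ⟨_, Nat.pow_right_injective (Fintype.one_lt_card (α := K)) h3⟩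

theorem aeval_lin {φ : K →+* F} (hφ : ∀ (c : K) (v : V), c • v = φ c • v) {A : Module.End K V}
    (hA : ∀ (c : F) (v : V), A (c • v) = c • A v) (P : K[X]) (c : F) (v : V) :
    (aeval A P) (c • v) = c • (aeval A P) v := by
  induction P using Polynomial.induction_on' with
  | add P Q hP hQ => rw [map_add, LinearMap.add_apply, LinearMap.add_apply, hP, hQ, smul_add]
  | monomial k a =>
    have h1 : ∀ v, (A ^ k) (c • v) = c • (A ^ k) v := by
      induction k with
      | zero => intro v; rfl
      | succ k ih =>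
        intro v
        rw [pow_succ]
        change (A ^ k) (A (c • v)) = c • (A ^ k) (A v)
        rw [hA, ih]
    rw [aeval_monomial]
    change algebraMap K (Module.End K V) a ((A ^ k) (c • v)) = c • algebraMap K (Module.End K V) a ((A ^ k) v)
    rw [h1, Module.algebraMap_end_apply, Module.algebraMap_end_apply, hφ, hφ, smul_comm]

end

/-- the `F`-structure -/
def ExtB (H : Subgroup (V ≃ₗ[K] V)) (b : ℕ) : Prop :=
  ∃ (F : Type) (_ : Field F) (_ : Fintype F) (_ : Module F V) (φ : K →+* F),
    (∀ (c : K) (v : V), c • v = φ c • v) ∧ Fintype.card F = Fintype.card K ^ b ∧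
      ∀ h ∈ H, ∃ σ : F ≃+* F, ∀ (c : F) (v : V), h (c • v) = σ c • h v

theorem ExtO.exists {H : Subgroup (V ≃ₗ[K] V)} (h : ExtO H) : ∃ b, 2 ≤ b ∧ b ∣ finrank K V ∧ ExtB H b := by
  obtain ⟨F, i1, i2, i3, φ, b, h1, h2, h3, h4, h5⟩ := h
  exact ⟨b, h2, h4, F, i1, i2, i3, φ, h1, h3, h5⟩

variable {L : Type} [Field L] [Algebra K L] {M : Type} [Field M] [Algebra K M]

theorem two_aeval {g : V ≃ₗ[K] V} {ω : Lˣ} {ν : Mˣ} {e : V ≃ₗ[K] L × M}
    (he : ∀ v, e (g v) = ((ω : L) * (e v).1, (ν : M) * (e v).2)) (P : K[X]) (v : V) :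
    e ((aeval (g : Module.End K V) P) v) = (aeval (ω : L) P * (e v).1, aeval (ν : M) P * (e v).2) := by
  induction P using Polynomial.induction_on' with
  | add P Q hP hQ =>
    rw [map_add, map_add, map_add, LinearMap.add_apply, map_add, hP, hQ, Prod.mk_add_mk, add_mul, add_mul]
  | monomial k a =>
    have h1 : ((g : Module.End K V) ^ k) v = (g ^ k) v := by
      induction k generalizing v with
      | zero => rfl
      | succ k ih =>
        rw [pow_succ, pow_succ]
        change ((g : Module.End K V) ^ k) (g v) = (g ^ k) (g v)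
        exact ih _
    rw [aeval_monomial, aeval_monomial, aeval_monomial]
    change e (algebraMap K (Module.End K V) a (((g : Module.End K V) ^ k) v)) = _
    rw [h1, Module.algebraMap_end_apply, map_smul, twoT_pow he]
    apply Prod.ext
    · change a • (((ω ^ k : Lˣ) : L) * (e v).1) = algebraMap K L a * (ω : L) ^ k * (e v).1
      rw [Algebra.smul_def, Units.val_pow_eq_pow_val, mul_assoc]
    · change a • (((ν ^ k : Mˣ) : M) * (e v).2) = algebraMap K M a * (ν : M) ^ k * (e v).2
      rw [Algebra.smul_def, Units.val_pow_eq_pow_val, mul_assoc]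

/-- **The divisibility by `b`.** -/
theorem ext_dvd [Nontrivial V] {H : Subgroup (V ≃ₗ[K] V)} {b : ℕ} (hE : ExtB H b) {g : V ≃ₗ[K] V} (hg : g ∈ H)
    {ω : Lˣ} {ν : Mˣ} (ht : TwoT L M g ω ν) {P : K[X]} (h1 : aeval ((ω ^ b : Lˣ) : L) P ≠ 0)
    (h2 : aeval ((ν ^ b : Mˣ) : M) P = 0) : b ∣ finrank K M := by
  obtain ⟨F, i1, i2, i3, φ, hφ, hc, hsem⟩ := hE
  obtain ⟨σ, hσ⟩ := hsem g hg
  obtain ⟨e, he⟩ := ht.pow b
  have hlin := lin_pow hφ hc hσ
  let W : Submodule K V := LinearMap.ker (aeval ((g ^ b : V ≃ₗ[K] V) : Module.End K V) P)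
  have hW : ∀ v, v ∈ W ↔ (e v).1 = 0 := by
    intro v
    rw [LinearMap.mem_ker, ← LinearEquiv.map_eq_zero_iff e, two_aeval he, h2, zero_mul, Prod.mk_eq_zero]
    simp only [and_true, mul_eq_zero, h1, false_or]
  have h3 : b ∣ finrank K W := dvd_finrank hφ hc W fun c v hv => by
    rw [LinearMap.mem_ker] at hv ⊢
    rw [aeval_lin hφ (A := ((g ^ b : V ≃ₗ[K] V) : Module.End K V)) hlin, hv, smul_zero]
  have h4 : finrank K W = finrank K M := by
    let f : W ≃ₗ[K] M :=
      { toFun := fun w => (e w).2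
        map_add' := fun w w' => by rw [Submodule.coe_add, map_add, Prod.snd_add]
        map_smul' := fun c w => by rw [Submodule.coe_smul, map_smul, Prod.smul_snd]; rfl
        invFun := fun m => ⟨e.symm (0, m), by rw [hW, LinearEquiv.apply_symm_apply]⟩
        left_inv := fun w => by
          apply Subtype.ext
          apply e.injective
          rw [LinearEquiv.apply_symm_apply]
          exact Prod.ext ((hW w).1 w.2).symm rfl
        right_inv := fun m => by simp }
    exact f.finrank_eq
  rwa [h4] at h3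

/-- the version with `ν ^ i = 1` -/
theorem ext_dvd_pow [Nontrivial V] {H : Subgroup (V ≃ₗ[K] V)} {b : ℕ} (hE : ExtB H b) {g : V ≃ₗ[K] V} (hg : g ∈ H)
    {ω : Lˣ} {ν : Mˣ} (ht : TwoT L M g ω ν) {i : ℕ} (h1 : ω ^ (i * b) ≠ 1) (h2 : ν ^ i = 1) : b ∣ finrank K M := by
  refine ext_dvd hE hg ht (P := X ^ i - 1) ?_ ?_
  · rw [map_sub, map_pow, aeval_X, map_one, sub_ne_zero, ← Units.val_pow_eq_pow_val, ← pow_mul, mul_comm b i]
    intro h
    exact h1 (Units.ext h)
  · rw [map_sub, map_pow, aeval_X, map_one, sub_eq_zero, ← Units.val_pow_eq_pow_val, ← pow_mul, mul_comm b i,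
      pow_mul, h2, one_pow, Units.val_one]

end Cfsg.Agent.H184.Cov
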