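import Mathlib
import Cfsg.Agent.H184.Cov.Types
import Cfsg.Agent.H184.Cov.Her

/-!
# S2499, linear groups: semilinear groups of dimension one (helper184)

`gam_fix` : an element `h ≠ 1` of `ΓL₁(q ^ n)` with `q ^ j` fixed points has order `t` dividing ... with `n = j t`.
-/

set_option autoImplicit false
set_option linter.unusedSectionVars false

namespace Cfsg.Agent.H184.Cov

open Module

variable {K : Type} [Field K] [Fintype K] {V : Type} [AddCommGroup V] [Module K V] [Finite V]

/-- the order of a field automorphism and the fixed field -/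
theorem card_fixed {F : Type} [Field F] [Finite F] (σ : F ≃+* F) :
    Nat.card F = Nat.card {x : F // σ x = x} ^ orderOf σ := by
  classical
  let σ' : RingAut F := σ
  have hfin : Finite (RingAut F) := Finite.of_injective (fun s : RingAut F => (s : F → F)) DFunLike.coe_injective
  let G : Subgroup (RingAut F) := Subgroup.zpowers σ'
  have hG : Fintype G := Fintype.ofFinite _
  have h1 : Module.finrank (FixedPoints.subfield G F) F = Fintype.card G := FixedPoints.finrank_eq_card G F
  have h2 : Fintype.card G = orderOf σ := by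
    rw [← Nat.card_eq_fintype_card]
    exact Nat.card_zpowers σ'
  have hfin' : Module.Finite (FixedPoints.subfield G F) F := Module.Finite.of_finite
  have h3 : Nat.card F = Nat.card (FixedPoints.subfield G F) ^ Module.finrank (FixedPoints.subfield G F) F :=
    Module.natCard_eq_pow_finrank
  rw [h3, h1, h2]
  congr 1
  refine Nat.card_congr (Equiv.subtypeEquivRight fun x => ?_)
  constructor
  · intro h
    exact h ⟨σ', Subgroup.mem_zpowers _⟩
  · intro h g
    have h4 : ∀ g ∈ G, g • x = x := by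
      intro g hg
      have h5 : G ≤ MulAction.stabilizer (RingAut F) x := by
        rw [Subgroup.zpowers_le]
        exact h
      exact h5 hg
    exact h4 g g.2

theorem gam_fix {H : Subgroup (V ≃ₗ[K] V)} (hG : GamO H) {h : V ≃ₗ[K] V} (hh : h ∈ H) {v0 : V} (hv : v0 ≠ 0)
    (hf : h v0 = v0) {j : ℕ} (hj : Nat.card {v // h v = v} = Nat.card K ^ j) :
    ∃ t, finrank K V = j * t ∧ h ^ t = 1 := by
  obtain ⟨F, i1, i2, e, hc, hs⟩ := hG
  obtain ⟨c, σ, hσ⟩ := hs h hh
  have he0 : e v0 ≠ 0 := by rwa [Ne, AddEquivClass.map_eq_zero_iff]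
  have h0 : e v0 = c * σ (e v0) := by rw [← hσ, hf]
  have hσ0 : σ (e v0) ≠ 0 := by rwa [Ne, map_eq_zero_iff _ σ.injective]
  have hc0 : c = e v0 / σ (e v0) := by
    rw [eq_div_iff hσ0]
    exact h0.symm
  -- the normalized coordinate
  have key : ∀ v, e (h v) / e v0 = σ (e v / e v0) := by
    intro v
    rw [hσ, hc0, map_div₀]
    field_simp
  have hpow : ∀ (i : ℕ) (v : V), e ((h ^ i) v) / e v0 = (σ ^ i) (e v / e v0) := by
    intro i
    induction i with
    | zero => intro v; rfl
    | succ i ih =>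
      intro v
      rw [pow_succ, pow_succ]
      change e ((h ^ i) (h v)) / e v0 = (σ ^ i) (σ (e v / e v0))
      rw [ih, key]
  refine ⟨orderOf σ, ?_, ?_⟩
  · have h1 : Nat.card {v // h v = v} = Nat.card {x : F // σ x = x} := by
      refine Nat.card_congr (Equiv.subtypeEquiv (e.toEquiv.trans (Equiv.mulRight₀ (e v0)⁻¹ (inv_ne_zero he0))) ?_)
      intro v
      change h v = v ↔ σ (e v * (e v0)⁻¹) = e v * (e v0)⁻¹
      rw [← div_eq_mul_inv, ← key, div_left_inj' he0, e.injective.eq_iff]
    have h2 := card_fixed σ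
    rw [← h1, hj, Nat.card_eq_fintype_card (α := F), hc, Nat.card_eq_fintype_card, ← pow_mul] at h2
    exact Nat.pow_right_injective (Fintype.one_lt_card (α := K)) h2
  · apply LinearEquiv.ext
    intro v
    apply e.injective
    have h1 := hpow (orderOf σ) v
    rw [pow_orderOf_eq_one] at h1
    exact (div_left_inj' he0).1 h1

variable {L : Type} [Field L] [Algebra K L] [Finite L] {M : Type} [Field M] [Algebra K M] [Finite M]

/-- the fixed points of `(ω, 1)` -/
theorem card_fix_two {h : V ≃ₗ[K] V} {ω : Lˣ} (ht : TwoT L M h ω 1) (hω : ω ≠ 1) :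
    Nat.card {v // h v = v} = Nat.card K ^ finrank K M ∧ ∃ v0, v0 ≠ 0 ∧ h v0 = v0 := by
  obtain ⟨e, he⟩ := ht
  have hfix : ∀ v, h v = v ↔ (e v).1 = 0 := by
    intro v
    rw [← e.injective.eq_iff, he, Units.val_one, one_mul, Prod.ext_iff]
    simp only [and_true]
    constructor
    · intro h1
      by_contra h0
      apply hω
      apply Units.ext
      rw [Units.val_one]
      exact mul_right_cancel₀ h0 (by rw [h1, one_mul])
    · intro h1
      rw [h1, mul_zero]
  refine ⟨?_, e.symm (0, 1), ?_, ?_⟩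
  · rw [← card_field]
    exact Nat.card_congr
      { toFun := fun v => (e v.1).2
        invFun := fun m => ⟨e.symm (0, m), by rw [hfix, LinearEquiv.apply_symm_apply]⟩
        left_inv := fun v => by
          apply Subtype.ext
          apply e.injective
          rw [LinearEquiv.apply_symm_apply]
          exact Prod.ext ((hfix _).1 v.2).symm rfl
        right_inv := fun m => by simp }
  · rw [Ne, LinearEquiv.map_eq_zero_iff]
    intro h1
    exact one_ne_zero (congrArg Prod.snd h1)
  · rw [hfix, LinearEquiv.apply_symm_apply]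

theorem gam_two {H : Subgroup (V ≃ₗ[K] V)} (hG : GamO H) {h : V ≃ₗ[K] V} (hh : h ∈ H) {ω : Lˣ}
    (ht : TwoT L M h ω 1) (hω : ω ≠ 1) : ∃ t, finrank K V = finrank K M * t ∧ ω ^ t = 1 := by
  obtain ⟨h1, v0, hv, hf⟩ := card_fix_two ht hω
  obtain ⟨t, h2, h3⟩ := gam_fix hG hh hv hf h1
  exact ⟨t, h2, (ht.pow_eq_one_iff.1 h3).1⟩

/-- `q ^ (n - 1) - 1` does not divide `(q - 1) n` -/
theorem num_gam_one {q k t : ℕ} (hq : 2 ≤ q) (hk : 3 ≤ k) (ht0 : 0 < t) (ht : t ≤ k + 1) :
    ¬ (q ^ k - 1) ∣ (q - 1) * t := by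
  intro hd
  have h1 := Nat.le_of_dvd (by have : 0 < q - 1 := by omega
                               positivity) hd
  obtain ⟨m, rfl⟩ : ∃ m, q = m + 1 := ⟨q - 1, by omega⟩
  rw [Nat.add_sub_cancel] at h1
  have h2 : m * t ≤ m * (k + 1) := Nat.mul_le_mul_left _ ht
  have h3 : ∀ k, 3 ≤ k → m * (k + 1) + 1 < (m + 1) ^ k := by
    intro k hk
    induction k, hk using Nat.le_induction with
    | base => nlinarith [Nat.zero_le m, mul_pos (show 0 < m by omega) (show 0 < m by omega)]
    | succ k hk ih =>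
      rw [pow_succ]
      have h5 : (m * (k + 1) + 1 + 1) * 2 ≤ (m + 1) ^ k * (m + 1) := Nat.mul_le_mul ih (by omega)
      have h6 : m * 1 ≤ m * (k + 1) := Nat.mul_le_mul_left _ (by omega)
      have h7 : m * (k + 1 + 1) = m * (k + 1) + m := by ring
      omega
  have h4 := h3 k hk
  omega

/-- `q ^ k - 1` does not divide `(q² - 1) t`, `t = k / 2 + 1` -/
theorem num_gam_two {q k t : ℕ} (hq : 2 ≤ q) (hk : 3 ≤ k) (ht : k + 2 = 2 * t) : ¬ (q ^ k - 1) ∣ (q ^ 2 - 1) * t := by
  intro hd
  have hq2 : 4 ≤ q ^ 2 := by nlinarith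
  have h1 := Nat.le_of_dvd (Nat.mul_pos (by omega) (by omega)) hd
  obtain ⟨s, rfl⟩ : ∃ s, k = 2 * s := ⟨t - 1, by omega⟩
  obtain rfl : t = s + 1 := by omega
  rw [pow_mul] at h1
  obtain ⟨m, hm⟩ : ∃ m, q ^ 2 = m + 1 := ⟨q ^ 2 - 1, by omega⟩
  have hm3 : 3 ≤ m := by omega
  rw [hm, Nat.add_sub_cancel] at h1
  have h3 : ∀ s, 2 ≤ s → m * (s + 1) + 1 < (m + 1) ^ s := by
    intro s hs
    induction s, hs using Nat.le_induction with
    | base => nlinarith
    | succ k hk ih =>
      rw [pow_succ]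
      have h5 : (m * (k + 1) + 1 + 1) * 2 ≤ (m + 1) ^ k * (m + 1) := Nat.mul_le_mul ih (by omega)
      have h6 : m * 1 ≤ m * (k + 1) := Nat.mul_le_mul_left _ (by omega)
      have h7 : m * (k + 1 + 1) = m * (k + 1) + m := by ring
      omega
  have h4 := h3 s (by omega)
  omega

end Cfsg.Agent.H184.Cov
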