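import Mathlib
import Cfsg.Agent.H184.Cov.Types
import Cfsg.Agent.H184.Cov.Her

/-!
# S2499, linear groups: symplectic forms (helper184)

* `symp_two` : a group of similarities of a symplectic form contains no element of type `(n - 1, 1)`;
* `symp_one` : a group of similarities of a symplectic form does not contain the `(q - 1)`-st power of a Singer cycle.
-/

set_option autoImplicit false
set_option linter.unusedSectionVars false

namespace Cfsg.Agent.H184.Cov

open Module Polynomial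

variable {K : Type} [Field K] [Fintype K] {V : Type} [AddCommGroup V] [Module K V] [Finite V]
  {L : Type} [Field L] [Algebra K L] [Finite L]

theorem skew {f : V →ₗ[K] V →ₗ[K] K} (h : ∀ v, f v v = 0) (u v : V) : f u v = - f v u := by
  have h1 := h (u + v)
  simp only [map_add, LinearMap.add_apply, h] at h1
  linear_combination h1

theorem symp_two {H : Subgroup (V ≃ₗ[K] V)} (hS : SympO H) {g : V ≃ₗ[K] V} (hg : g ∈ H) {ω : Lˣ} (hω : IsGen ω)
    {ν : Kˣ} (ht : TwoT L K g ω ν) (h2 : 2 ≤ finrank K L) : False := by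
  obtain ⟨f, ha, hn, hs⟩ := hS
  obtain ⟨μ, hμ⟩ := hs g hg
  obtain ⟨e, he⟩ := ht
  have hfin : Module.Finite K L := Module.Finite.of_finite
  set u : V := e.symm (0, 1) with hu
  have hgu : g u = (ν : K) • u := by
    apply e.injective
    rw [he, map_smul, hu, LinearEquiv.apply_symm_apply]
    apply Prod.ext
    · change (ω : L) * 0 = (ν : K) • (0 : L)
      rw [mul_zero, smul_zero]
    · rfl
  let w : L →ₗ[K] V := (e.symm : L × K →ₗ[K] V) ∘ₗ LinearMap.inl K L K
  have hw : ∀ a : L, w a = e.symm (a, 0) := fun a => rfl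
  have hgw : ∀ a : L, g (w a) = w ((ω : L) * a) := by
    intro a
    apply e.injective
    rw [he, hw, hw, LinearEquiv.apply_symm_apply, LinearEquiv.apply_symm_apply]
    simp
  let ψ : L →ₗ[K] K := (f.flip u) ∘ₗ w
  have hψ : ∀ a, ψ a = f (w a) u := fun a => rfl
  have hψω : ∀ a, ψ ((ω : L) * a) = μ * (ν : K)⁻¹ * ψ a := by
    intro a
    have h1 := hμ (w a) u
    rw [hgw, hgu, map_smul, smul_eq_mul, ← hψ, ← hψ] at h1
    rw [mul_comm μ, mul_assoc, ← h1, inv_mul_cancel_left₀ ν.ne_zero]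
  have hpow : ∀ (i : ℕ) (a : L), ψ a = 0 → ψ (((ω ^ i : Lˣ) : L) * a) = 0 := by
    intro i
    induction i with
    | zero => intro a h; simpa using h
    | succ i ih =>
      intro a h
      rw [pow_succ, Units.val_mul, mul_assoc]
      apply ih
      rw [hψω, h, mul_zero]
  obtain ⟨a0, ha0, ha0'⟩ : ∃ a : L, a ≠ 0 ∧ ψ a = 0 := by
    have h1 : finrank K K < finrank K L := by rw [finrank_self]; omega
    have h3 := LinearMap.ker_ne_bot_of_finrank_lt (f := ψ) h1
    obtain ⟨a, h4, h5⟩ := (Submodule.ne_bot_iff _).1 h3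
    exact ⟨a, h5, h4⟩
  have hψ0 : ∀ a, ψ a = 0 := by
    intro a
    by_cases ha : a = 0
    · rw [ha, map_zero]
    · obtain ⟨i, hi⟩ := hω.exists_pow (Units.mk0 a ha / Units.mk0 a0 ha0)
      have h1 := hpow i a0 ha0'
      rw [hi, Units.val_div_eq_div_val, Units.val_mk0, Units.val_mk0, div_mul_cancel₀ _ ha0] at h1
      exact h1
  have h0 : u = 0 := by
    apply hn
    intro v
    rw [skew ha]
    obtain ⟨a, c, hv⟩ : ∃ (a : L) (c : K), v = w a + c • u := by
      refine ⟨(e v).1, (e v).2, ?_⟩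
      apply e.injective
      rw [map_add, map_smul, hw, hu, LinearEquiv.apply_symm_apply, LinearEquiv.apply_symm_apply]
      apply Prod.ext
      · change (e v).1 = (e v).1 + (e v).2 • (0 : L)
        rw [smul_zero, add_zero]
      · change (e v).2 = 0 + (e v).2 • (1 : K)
        rw [zero_add, smul_eq_mul, mul_one]
    rw [hv, map_add, map_smul, LinearMap.add_apply, LinearMap.smul_apply, ← hψ, hψ0, ha, smul_zero, add_zero, neg_zero]
  have h1 : e u = 0 := by rw [h0, map_zero]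
  rw [hu, LinearEquiv.apply_symm_apply] at h1
  exact one_ne_zero (congrArg Prod.snd h1 : (1 : K) = 0)

theorem num_symp {q n i : ℕ} (hq : 2 ≤ q) (hn : 3 ≤ n) (hi : i < n) : ¬ (q ^ n - 1) ∣ (q - 1) * (q - 1) * (q ^ i + 1) := by
  intro hd
  obtain ⟨m, rfl⟩ : ∃ m, q = m + 1 := ⟨q - 1, by omega⟩
  have hm : 1 ≤ m := by omega
  rw [Nat.add_sub_cancel] at hd
  have hY : m + 1 ≤ (m + 1) ^ (n - 2) := Nat.le_self_pow (by omega) _
  have hn2 : (m + 1) ^ n = (m + 1) ^ (n - 2) * ((m + 1) * (m + 1)) := by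
    rw [← pow_two, ← pow_add]
    congr 1
    omega
  have hpos : 0 < (m + 1) ^ n := by positivity
  rcases Nat.lt_or_ge i (n - 1) with h1 | h1
  · have h2 := Nat.le_of_dvd (by positivity) hd
    have h3 : (m + 1) ^ i ≤ (m + 1) ^ (n - 2) := Nat.pow_le_pow_right (by omega) (by omega)
    set Y := (m + 1) ^ (n - 2) with hYd
    set Z := (m + 1) ^ i with hZd
    rw [hn2] at h2
    have h4 : m * m * (Z + 1) ≤ m * m * (Y + 1) := Nat.mul_le_mul_left _ (by omega)
    have h5 : Y * ((m + 1) * (m + 1)) ≤ m * m * (Y + 1) + 1 := by omega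
    nlinarith
  · obtain rfl : i = n - 1 := by omega
    have h2 : ((m + 1) ^ n - 1) ∣ m * m * (m + 2) := by
      have h3 : (m + 1) ^ n - 1 ∣ (m + 1) * (m * m * ((m + 1) ^ (n - 1) + 1)) := Dvd.dvd.mul_left hd _
      have h4 : (m + 1) * (m + 1) ^ (n - 1) = (m + 1) ^ n := by
        rw [← pow_succ']
        congr 1
        omega
      have h5 : (m + 1) * (m * m * ((m + 1) ^ (n - 1) + 1)) = m * m * ((m + 1) ^ n - 1) + m * m * (m + 2) := by
        have h6 : (m + 1) * (m * m * ((m + 1) ^ (n - 1) + 1)) = m * m * ((m + 1) * (m + 1) ^ (n - 1) + (m + 1)) := by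
          ring
        rw [h6, h4, ← mul_add]
        congr 1
        omega
      rw [h5] at h3
      exact (Nat.dvd_add_right (Dvd.intro_left _ rfl)).1 h3
    have h3 := Nat.le_of_dvd (by positivity) h2
    have h4 : (m + 1) ^ 3 ≤ (m + 1) ^ n := Nat.pow_le_pow_right (by omega) hn
    have h5 : (m + 1) ^ 3 = m * m * (m + 2) + m * m + 3 * m + 1 := by ring
    omega

theorem pow_mod {n : ℕ} (hn : Nat.card L = Nat.card K ^ n) (x : L) (i : ℕ) :
    x ^ (Nat.card K ^ i) = x ^ (Nat.card K ^ (i % n)) := by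
  have h1 : ∀ (k : ℕ) (y : L), y ^ (Nat.card K ^ (n * k)) = y := by
    intro k
    induction k with
    | zero => intro y; simp
    | succ k ih =>
      intro y
      have h2 : y ^ (Nat.card K ^ n) = y := by
        have := Fintype.ofFinite L
        rw [← hn, Nat.card_eq_fintype_card, FiniteField.pow_card]
      rw [mul_add, mul_one, pow_add, pow_mul, ih, h2]
  conv_lhs => rw [← Nat.mod_add_div i n, pow_add, pow_mul, h1]

theorem symp_one {H : Subgroup (V ≃ₗ[K] V)} (hS : SympO H) {g : V ≃ₗ[K] V} (hg : g ∈ H) {γ : Lˣ} (hγ : IsGen γ)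
    (ht : OneT L g (γ ^ (Nat.card K - 1))) (h3 : 3 ≤ finrank K L) : False := by
  obtain ⟨f, ha, hn, hs⟩ := hS
  obtain ⟨μ, hμ⟩ := hs g hg
  obtain ⟨e, he⟩ := ht
  have hfin : Module.Finite K L := Module.Finite.of_finite
  obtain ⟨q, hq⟩ : ∃ q, q = Nat.card K := ⟨_, rfl⟩
  rw [← hq] at he
  -- `f ≠ 0`
  have hne : ∃ u v, f u v ≠ 0 := by
    by_contra hcon
    push Not at hcon
    have h1 : e.symm 1 = 0 := hn _ fun v => hcon _ v
    rw [LinearEquiv.map_eq_zero_iff] at h1
    exact one_ne_zero h1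
  have hμ0 : μ ≠ 0 := by
    rintro rfl
    obtain ⟨u, v, huv⟩ := hne
    obtain ⟨u', rfl⟩ := g.surjective u
    obtain ⟨v', rfl⟩ := g.surjective v
    rw [hμ, zero_mul] at huv
    exact huv rfl
  -- the form on `L`
  let F : L →ₗ[K] L →ₗ[K] K := f.compl₁₂ (e.symm : L →ₗ[K] V) (e.symm : L →ₗ[K] V)
  have hF : ∀ a b, F a b = f (e.symm a) (e.symm b) := fun a b => rfl
  have hg' : ∀ a, g (e.symm a) = e.symm (((γ ^ (q - 1) : Lˣ) : L) * a) := by
    intro a
    apply e.injective
    rw [he, LinearEquiv.apply_symm_apply, LinearEquiv.apply_symm_apply]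
  have hF1 : ∀ a b, F (((γ ^ (q - 1) : Lˣ) : L) * a) (((γ ^ (q - 1) : Lˣ) : L) * b) = μ * F a b := by
    intro a b
    rw [hF, hF, ← hg', ← hg', hμ]
  obtain ⟨τ, hτ⟩ : ∃ τ : Lˣ, τ = (γ ^ (q - 1)) ^ (q - 1) := ⟨_, rfl⟩
  have hF2 : ∀ (i : ℕ) (a b : L), F ((((γ ^ (q - 1)) ^ i : Lˣ) : L) * a) ((((γ ^ (q - 1)) ^ i : Lˣ) : L) * b) =
      μ ^ i * F a b := by
    intro i
    induction i with
    | zero => intro a b; simp
    | succ i ih =>
      intro a b
      rw [pow_succ (γ ^ (q - 1)), Units.val_mul, mul_assoc, mul_assoc, ih, hF1, pow_succ, mul_assoc]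
  have hF3 : ∀ a b, F ((τ : L) * a) ((τ : L) * b) = F a b := by
    intro a b
    rw [hτ, hF2]
    have h1 : μ ^ (q - 1) = 1 := by
      rw [hq, Nat.card_eq_fintype_card]
      exact FiniteField.pow_card_sub_one_eq_one μ hμ0
    rw [h1, one_mul]
  have hF4 : ∀ a b, F ((τ : L) * a) b = F a (((τ⁻¹ : Lˣ) : L) * b) := by
    intro a b
    rw [← hF3 a (((τ⁻¹ : Lˣ) : L) * b), ← mul_assoc, Units.mul_inv, one_mul]
  have hF5 : ∀ (P : K[X]) (a b : L), F (aeval (τ : L) P * a) b = F a (aeval ((τ⁻¹ : Lˣ) : L) P * b) := by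
    intro P
    induction P using Polynomial.induction_on' with
    | add P Q hP hQ =>
      intro a b
      rw [map_add, map_add, add_mul, add_mul, map_add, LinearMap.add_apply, hP, hQ, map_add]
    | monomial k c =>
      have h1 : ∀ (k : ℕ) (a b : L), F ((τ : L) ^ k * a) b = F a (((τ⁻¹ : Lˣ) : L) ^ k * b) := by
        intro k
        induction k with
        | zero => intro a b; simp
        | succ k ih =>
          intro a b
          rw [pow_succ, mul_assoc, ih, hF4, pow_succ' ((τ⁻¹ : Lˣ) : L), mul_assoc]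
      intro a b
      rw [aeval_monomial, aeval_monomial, mul_assoc, mul_assoc, ← Algebra.smul_def, ← Algebra.smul_def, map_smul,
        LinearMap.smul_apply, h1, map_smul]
  have hint : IsIntegral K (τ : L) := Algebra.IsIntegral.isIntegral _
  have hP0 : aeval ((τ⁻¹ : Lˣ) : L) (minpoly K (τ : L)) = 0 := by
    by_contra hcon
    obtain ⟨u, v, huv⟩ := hne
    apply huv
    have h1 := hF5 (minpoly K (τ : L)) (e u) ((aeval ((τ⁻¹ : Lˣ) : L) (minpoly K (τ : L)))⁻¹ * e v)
    rw [minpoly.aeval, zero_mul, map_zero, LinearMap.zero_apply, mul_inv_cancel_left₀ hcon, hF,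
      LinearEquiv.symm_apply_apply, LinearEquiv.symm_apply_apply] at h1
    exact h1.symm
  have hconj : IsConjRoot K (τ : L) ((τ⁻¹ : Lˣ) : L) :=
    minpoly.eq_of_irreducible_of_monic (minpoly.irreducible hint) hP0 (minpoly.monic hint)
  obtain ⟨σ, hσ⟩ := (isConjRoot_iff_exists_algEquiv (K := K)).1 hconj
  obtain ⟨p, hp⟩ := CharP.exists K
  have hpp : Fact p.Prime := ⟨CharP.char_is_prime K p⟩
  obtain ⟨i, hi⟩ := FiniteField.exists_forall_apply_eq_pow K p L σ
  have hcL : Nat.card L = Nat.card K ^ finrank K L := card_field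
  have h1 : ((τ⁻¹ : Lˣ) : L) ^ (Nat.card K ^ (i % finrank K L)) = τ := by
    rw [← pow_mod hcL, ← hi, hσ]
  have h2 : τ ^ (q ^ (i % finrank K L) + 1) = 1 := by
    apply Units.ext
    have h4 : (τ⁻¹) ^ (q ^ (i % finrank K L)) = τ := by
      apply Units.ext
      rw [Units.val_pow_eq_pow_val, hq]
      exact h1
    have h5 : τ ^ (q ^ (i % finrank K L)) = τ⁻¹ := by
      rw [inv_pow, inv_eq_iff_eq_inv] at h4
      exact h4
    rw [pow_succ, h5, inv_mul_cancel]
  rw [hτ, ← pow_mul, ← pow_mul] at h2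
  have h4 := orderOf_dvd_of_pow_eq_one h2
  rw [hγ.orderOf, card_units (K := K), ← hq, ← mul_assoc] at h4
  refine num_symp (q := q) ?_ h3 (Nat.mod_lt _ (by omega)) h4
  rw [hq]
  exact one_lt_q

end Cfsg.Agent.H184.Cov
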