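import Mathlib
import Cfsg.Agent.H184.Cov.Types
import Cfsg.Agent.H184.Cov.Her

/-!
# S2499, linear groups: the exceptions of Hering's theorem (helper184)

* `thi_kill` : a group of order 2184 has no elements of order 80 or 242;
* `uni_kill` : in `GL₆(2)` a group with a normal subgroup of order 6048 contains no element of order 31
  and no element of order 5 with four fixed vectors.
-/

set_option autoImplicit false
set_option linter.unusedSectionVars false

namespace Cfsg.Agent.H184.Cov

open Module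

section general

theorem modEq_fix {α : Type*} [Finite α] (f : α → α) {p : ℕ} (hp : p.Prime) (hf : ∀ a, f^[p] a = a) :
    Nat.card {a // f a = a} ≡ Nat.card α [MOD p] := by
  classical
  have : Fact p.Prime := ⟨hp⟩
  have : Fintype α := Fintype.ofFinite α
  let F : Function.End α := f
  have h1 : F ^ p ^ 1 = 1 := by
    rw [pow_one]
    funext a
    have h2 : ∀ (n : ℕ) (a : α), (F ^ n) a = f^[n] a := by
      intro n
      induction n with
      | zero => intro a; rfl
      | succ n ih =>
        intro a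
        rw [pow_succ, Function.iterate_succ_apply, ← ih]
        rfl
    rw [h2, hf]
    rfl
  have h2 := Equiv.Perm.card_fixedPoints_modEq (f := F) (n := 1) h1
  rw [← Nat.card_eq_fintype_card, ← Nat.card_eq_fintype_card] at h2
  exact h2.symm

variable {G : Type*} [Group G] [Finite G]

omit [Finite G] in
theorem conj_pow_eq {z u : G} {i : ℕ} (hi : z * u * z⁻¹ = u ^ i) (k : ℕ) : z ^ k * u * (z ^ k)⁻¹ = u ^ (i ^ k) := by
  induction k with
  | zero => simp
  | succ k ih =>
    have h1 : z ^ (k + 1) * u * (z ^ (k + 1))⁻¹ = z * (z ^ k * u * (z ^ k)⁻¹) * z⁻¹ := by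
      rw [pow_succ']
      group
    rw [h1, ih, ← conj_pow, hi, ← pow_mul, pow_succ']

theorem exists_comm (N : Subgroup G) [N.Normal] (hN : Nat.card N = 6048) (z : G) {r : ℕ} (hp : r.Prime)
    (hzr : z ^ r = 1) (hr : ¬ r ∣ 6048) (hr' : ∀ i : ZMod 7, i ^ r = 1 → i = 1) :
    ∃ t ∈ N, t ≠ 1 ∧ t ^ 7 = 1 ∧ z * t = t * z := by
  have f7 : Fact (Nat.Prime 7) := ⟨by norm_num⟩
  have fr : Fact r.Prime := ⟨hp⟩
  let φ : Subgroup.zpowers z →* MulAut N := MulAut.conjNormal.comp (Subgroup.zpowers z).subtype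
  letI act : MulDistribMulAction (Subgroup.zpowers z) N := MulDistribMulAction.compHom N φ
  have hP : IsPGroup r (Subgroup.zpowers z) := by
    intro x
    obtain ⟨i, hi⟩ := x.2
    refine ⟨1, Subtype.ext ?_⟩
    have hi' : z ^ i = (x : G) := hi
    rw [pow_one, Subgroup.coe_pow, ← hi', ← zpow_natCast, ← zpow_mul, mul_comm, zpow_mul, zpow_natCast, hzr, one_zpow]
    rfl
  have T0 : Sylow 7 N := default
  have hcard : ¬ r ∣ Nat.card (Sylow 7 N) := by
    intro h
    apply hr
    rw [← hN]
    exact h.trans ((T0.card_dvd_index).trans (Subgroup.index_dvd_card _))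
  obtain ⟨T, hT⟩ := hP.nonempty_fixed_point_of_prime_not_dvd_card (Sylow 7 N) hcard
  have hT7 : Nat.card T = 7 := by
    rw [T.card_eq_multiplicity, hN]
    have : Nat.factorization 6048 7 = 1 := by
      rw [show 6048 = 7 * 864 by norm_num, Nat.factorization_mul (by norm_num) (by norm_num), Finsupp.add_apply,
        Nat.Prime.factorization_self (by norm_num), Nat.factorization_eq_zero_of_not_dvd (by norm_num)]
    rw [this, pow_one]
  have hzT : ∀ t : N, t ∈ T → (MulAut.conjNormal z t) ∈ T := by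
    intro t ht
    have h1 := hT ⟨z, Subgroup.mem_zpowers z⟩
    have h2 : (⟨z, Subgroup.mem_zpowers z⟩ : Subgroup.zpowers z) • t ∈
        ((⟨z, Subgroup.mem_zpowers z⟩ : Subgroup.zpowers z) • T : Sylow 7 N) :=
      Subgroup.smul_mem_pointwise_smul _ _ _ ht
    rw [h1] at h2
    exact h2
  obtain ⟨T', hT7', hzT'⟩ : ∃ T' : Subgroup N, Nat.card T' = 7 ∧ ∀ t : N, t ∈ T' → MulAut.conjNormal z t ∈ T' :=
    ⟨T, hT7, hzT⟩
  clear hT7 hzT hT T
  have hnt : Nontrivial T' := Finite.one_lt_card_iff_nontrivial.1 (by rw [hT7']; norm_num)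
  obtain ⟨t, ht⟩ := exists_ne (1 : T')
  have ht7 : orderOf t = 7 := by
    have h1 : orderOf t ∣ 7 := hT7' ▸ orderOf_dvd_natCard t
    rcases (Nat.dvd_prime (by norm_num)).1 h1 with h2 | h2
    · exact absurd (orderOf_eq_one_iff.1 h2) ht
    · exact h2
  have hgen : ∀ s : T', ∃ i : ℕ, t ^ i = s := by
    intro s
    have h1 : s ∈ Subgroup.zpowers t := by
      have h2 : Subgroup.zpowers t = ⊤ := Subgroup.eq_top_of_card_eq _ (by rw [Nat.card_zpowers, ht7, hT7'])
      rw [h2]
      trivial
    rwa [← mem_powers_iff_mem_zpowers] at h1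
  obtain ⟨i, hi⟩ := hgen ⟨MulAut.conjNormal z (t : N), hzT' _ t.2⟩
  have hi' : z * ((t : N) : G) * z⁻¹ = ((t : N) : G) ^ i := by
    have h1 := congrArg (fun s : T' => ((s : N) : G)) hi
    simp only [Subgroup.coe_pow, MulAut.conjNormal_apply] at h1
    exact h1.symm
  set u : G := ((t : N) : G) with hu
  have hu7 : orderOf u = 7 := by
    rw [hu, Subgroup.orderOf_coe, Subgroup.orderOf_coe, ht7]
  have h1 := conj_pow_eq hi' r
  rw [hzr, one_mul, inv_one, mul_one] at h1
  have h2 : i ^ r ≡ 1 [MOD 7] := by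
    rw [← hu7, ← pow_eq_pow_iff_modEq, pow_one]
    exact h1.symm
  have h3 : i ≡ 1 [MOD 7] := by
    rw [← ZMod.natCast_eq_natCast_iff] at h2 ⊢
    push_cast at h2 ⊢
    exact hr' _ h2
  have h4 : u ^ i = u := by
    conv_rhs => rw [← pow_one u]
    rw [pow_eq_pow_iff_modEq, hu7]
    exact h3
  refine ⟨u, (t : N).2, ?_, ?_, ?_⟩
  · intro h
    rw [h, orderOf_one] at hu7
    omega
  · rw [← hu7, pow_orderOf_eq_one]
  · rw [h4] at hi'
    exact mul_inv_eq_iff_eq_mul.1 hi'

end general

variable {K : Type} [Field K] [Fintype K] {V : Type} [AddCommGroup V] [Module K V] [Finite V]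

theorem thi_kill {H : Subgroup (V ≃ₗ[K] V)} (hH : ThiO H) {g : V ≃ₗ[K] V} (hg : g ∈ H) (h : ¬ orderOf g ∣ 2184) :
    False := by
  apply h
  rw [← hH.2.2, ← Subgroup.orderOf_mk g hg]
  exact orderOf_dvd_natCard _

theorem iter_pow (g : V ≃ₗ[K] V) (n : ℕ) (v : V) : (⇑g)^[n] v = (g ^ n) v := by
  induction n generalizing v with
  | zero => rfl
  | succ n ih =>
    rw [Function.iterate_succ_apply, ih, pow_succ]
    rfl

theorem uni_kill {H : Subgroup (V ≃ₗ[K] V)} (hU : UniO H) {z : V ≃ₗ[K] V} (hz : z ∈ H) {r : ℕ} (hzr : z ^ r = 1)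
    (hcase : (r = 31 ∧ Nat.card {v // z v = v} = 2) ∨ (r = 5 ∧ Nat.card {v // z v = v} = 4)) : False := by
  obtain ⟨hn, hq, N, hNH, hnor, hN⟩ := hU
  have hfinG : Finite (V ≃ₗ[K] V) := DFunLike.finite _
  have hV : Nat.card V = 64 := by
    rw [Module.natCard_eq_pow_finrank (K := K), hn, Nat.card_eq_fintype_card, hq]
    norm_num
  -- the element of order 7
  obtain ⟨t, ht1, ht7, hzt⟩ : ∃ t : V ≃ₗ[K] V, t ≠ 1 ∧ t ^ 7 = 1 ∧ z * t = t * z := by
    have hnorm : (N.subgroupOf H).Normal := by
      constructor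
      intro x hx h
      rw [Subgroup.mem_subgroupOf] at hx ⊢
      exact hnor h h.2 x hx
    have hcard : Nat.card (N.subgroupOf H) = 6048 := by
      rw [← hN]
      exact Nat.card_congr (Subgroup.subgroupOfEquivOfLe hNH).toEquiv
    have hzr' : (⟨z, hz⟩ : H) ^ r = 1 := Subtype.ext hzr
    have h1 : ∃ t ∈ N.subgroupOf H, t ≠ 1 ∧ t ^ 7 = 1 ∧ (⟨z, hz⟩ : H) * t = t * ⟨z, hz⟩ := by
      rcases hcase with ⟨rfl, -⟩ | ⟨rfl, -⟩
      · exact exists_comm _ hcard _ (by norm_num) hzr' (by norm_num) (by decide)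
      · exact exists_comm _ hcard _ (by norm_num) hzr' (by norm_num) (by decide)
    obtain ⟨t, -, h1, h2, h3⟩ := h1
    exact ⟨t, fun h => h1 (Subtype.ext h), by rw [← Subgroup.coe_pow, h2]; rfl, congrArg Subtype.val h3⟩
  have hcomm : ∀ v, z (t v) = t (z v) := fun v => congrArg (fun f : V ≃ₗ[K] V => f v) hzt
  -- the three congruences
  have hrp : r.Prime := by
    rcases hcase with ⟨rfl, -⟩ | ⟨rfl, -⟩ <;> norm_num
  have c1 : Nat.card {v // t v = v} ≡ Nat.card V [MOD 7] :=
    modEq_fix (⇑t) (by norm_num) fun v => by rw [iter_pow, ht7]; rfl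
  have c2 : Nat.card {w : {v // t v = v} // z w = w} ≡ Nat.card {v // t v = v} [MOD r] := by
    let f : {v // t v = v} → {v // t v = v} := fun w => ⟨z w, by rw [← hcomm, w.2]⟩
    have h1 := modEq_fix f hrp (fun w => by
      have h2 : ∀ (n : ℕ) (w : {v // t v = v}), ((f^[n] w : {v // t v = v}) : V) = (z ^ n) w := by
        intro n
        induction n with
        | zero => intro w; rfl
        | succ n ih =>
          intro w
          rw [Function.iterate_succ_apply, ih, pow_succ]
          rfl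
      apply Subtype.ext
      rw [h2, hzr]
      rfl)
    rwa [show Nat.card {w // f w = w} = _ from Nat.card_congr (Equiv.subtypeEquivRight fun w => Subtype.ext_iff)] at h1
  have c3 : Nat.card {w : {v // z v = v} // t w = w} ≡ Nat.card {v // z v = v} [MOD 7] := by
    let f : {v // z v = v} → {v // z v = v} := fun w => ⟨t w, by rw [hcomm, w.2]⟩
    have h1 := modEq_fix f (p := 7) (by norm_num) (fun w => by
      have h2 : ∀ (n : ℕ) (w : {v // z v = v}), ((f^[n] w : {v // z v = v}) : V) = (t ^ n) w := by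
        intro n
        induction n with
        | zero => intro w; rfl
        | succ n ih =>
          intro w
          rw [Function.iterate_succ_apply, ih, pow_succ]
          rfl
      apply Subtype.ext
      rw [h2, ht7]
      rfl)
    rwa [show Nat.card {w // f w = w} = _ from Nat.card_congr (Equiv.subtypeEquivRight fun w => Subtype.ext_iff)] at h1
  have e1 : Nat.card {w : {v // z v = v} // t w = w} = Nat.card {w : {v // t v = v} // z w = w} :=
    Nat.card_congr
      { toFun := fun w => ⟨⟨w.1.1, w.2⟩, w.1.2⟩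
        invFun := fun w => ⟨⟨w.1.1, w.2⟩, w.1.2⟩
        left_inv := fun w => rfl
        right_inv := fun w => rfl }
  have h3 : Nat.card {w : {v // z v = v} // t w = w} ≤ Nat.card {v // z v = v} :=
    Nat.card_le_card_of_injective _ Subtype.val_injective
  have h4 : Nat.card {v // t v = v} ∣ 64 := by
    let W : AddSubgroup V :=
      { carrier := {v | t v = v}
        add_mem' := fun {a b} ha hb => by
          rw [Set.mem_ofPred_eq] at ha hb ⊢
          rw [map_add, ha, hb]
        zero_mem' := map_zero t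
        neg_mem' := fun {a} ha => by
          rw [Set.mem_ofPred_eq] at ha ⊢
          rw [map_neg, ha] }
    rw [← hV]
    exact W.card_addSubgroup_dvd_card
  obtain ⟨w, hw⟩ : ∃ w, w = Nat.card {v // t v = v} := ⟨_, rfl⟩
  have h5 : w = 64 := by
    rw [← hw] at c1 c2 h4
    rw [e1] at c3 h3
    rw [hV] at c1
    have h6 : w ≤ 64 := Nat.le_of_dvd (by norm_num) h4
    unfold Nat.ModEq at c1 c2 c3
    rcases hcase with ⟨rfl, hc⟩ | ⟨rfl, hc⟩ <;> rw [hc] at c3 h3
    · have h7 : Nat.card {w : {v // t v = v} // z w = w} = 2 := by omega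
      rw [h7] at c2
      interval_cases w <;> omega
    · have h7 : Nat.card {w : {v // t v = v} // z w = w} = 4 := by omega
      rw [h7] at c2
      interval_cases w <;> omega
  apply ht1
  ext v
  have h6 : Function.Bijective (Subtype.val : {v // t v = v} → V) := by
    rw [Nat.bijective_iff_injective_and_card]
    exact ⟨Subtype.val_injective, by rw [← hw, h5, hV]⟩
  obtain ⟨w', rfl⟩ := h6.2 v
  exact w'.2

end Cfsg.Agent.H184.Cov
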