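import Mathlib
import Cfsg.Agent.H184.Cov.KSide
import Cfsg.Agent.H184.Cov.HSide
import Cfsg.Agent.H184.Cov.KillExt
import Cfsg.Agent.H184.Cov.KillSymp
import Cfsg.Agent.H184.Cov.KillGam
import Cfsg.Agent.H184.Cov.KillUni

/-!
# S2499, linear groups: the two overgroup theorems (helper184)

* `over_k` : a subgroup of `GL(V)`, `dim V = n ≥ 5`, containing an element of type `(n - 1, 1)` contains `SL(V)` or
  fixes a point or a hyperplane;
* `over_h` : a subgroup of `GL(V)` containing `s`, `g` contains `SL(V)` or preserves a structure over `𝔽_{q²}`.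
-/

set_option autoImplicit false
set_option linter.unusedSectionVars false

namespace Cfsg.Agent.H184.Cov

open Module Polynomial

variable {K : Type} [Field K] [Fintype K] {V : Type} [AddCommGroup V] [Module K V] [Finite V]

/-- the group fixes a point or a hyperplane -/
def Red (H : Subgroup (V ≃ₗ[K] V)) : Prop :=
  (∃ v, v ≠ 0 ∧ ∀ h ∈ H, ∃ c : K, h v = c • v) ∨ (∃ φ : Dual K V, φ ≠ 0 ∧ ∀ h ∈ H, ∃ c : K, ∀ v, φ (h v) = c * φ v)

theorem NoEig.conj {g : V ≃ₗ[K] V} (h : NoEig g) (k : V ≃ₗ[K] V) : NoEig (k * g * k⁻¹) := by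
  refine ⟨fun v hv c hc => ?_, fun φ hφ c => ?_⟩
  · refine h.1 (k.symm v) (by rwa [Ne, LinearEquiv.map_eq_zero_iff]) c ?_
    apply k.injective
    rw [map_smul, LinearEquiv.apply_symm_apply]
    exact hc
  · by_contra hcon
    push Not at hcon
    obtain ⟨v, hv⟩ := h.2 (φ ∘ₗ (k : V →ₗ[K] V)) (by
      intro h0
      apply hφ
      ext v
      have h1 := congrArg (fun f : V →ₗ[K] K => f (k.symm v)) h0
      change φ (k (k.symm v)) = 0 at h1
      rwa [LinearEquiv.apply_symm_apply] at h1) c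
    apply hv
    have h1 := hcon (k v)
    change φ (k (g (k.symm (k v)))) = c * φ (k v) at h1
    rwa [LinearEquiv.symm_apply_apply] at h1

theorem NoEig.not_red {g : V ≃ₗ[K] V} (h : NoEig g) {H : Subgroup (V ≃ₗ[K] V)} (hg : g ∈ H) (hR : Red H) : False := by
  rcases hR with ⟨v, hv, hR⟩ | ⟨φ, hφ, hR⟩
  · obtain ⟨c, hc⟩ := hR g hg
    exact h.1 v hv c hc
  · obtain ⟨c, hc⟩ := hR g hg
    obtain ⟨v, hv⟩ := h.2 φ hφ c
    exact hv (hc v)

variable {L : Type} [Field L] [Algebra K L] [Finite L]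

theorem IsGen.dvd_of_pow {ω : Lˣ} (hω : IsGen ω) {i : ℕ} (h : ω ^ i = 1) : Nat.card K ^ finrank K L - 1 ∣ i := by
  rw [← card_units, ← hω.orderOf]
  exact orderOf_dvd_of_pow_eq_one h

theorem IsGen.pow_card {ω : Lˣ} : ω ^ (Nat.card K ^ finrank K L - 1) = 1 := by
  rw [← card_units (K := K) (L := L)]
  exact pow_card_eq_one'

theorem over_k {H : Subgroup (V ≃ₗ[K] V)} (hn : 5 ≤ finrank K V) {x : V ≃ₗ[K] V} (hx : x ∈ H) {ω : Lˣ} {ν : Kˣ}
    (hω : IsGen ω) (ht : TwoT L K x ω ν) :
    (∀ g : V ≃ₗ[K] V, LinearMap.det (g : V →ₗ[K] V) = 1 → g ∈ H) ∨ Red H := by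
  have hfin : Module.Finite K V := Module.Finite.of_finite
  have hfinL : Module.Finite K L := Module.Finite.of_finite
  have hdim : finrank K V = finrank K L + 1 := by
    obtain ⟨e, -⟩ := ht
    rw [e.finrank_eq, Module.finrank_prod, finrank_self]
  have hnt : Nontrivial V := Module.nontrivial_of_finrank_pos (R := K) (by omega)
  have hq1 : 2 ≤ Nat.card K := one_lt_q
  have hk1 : ∀ c : Kˣ, c ^ (Nat.card K - 1) = 1 := by
    intro c
    rw [← card_units_base]
    exact pow_card_eq_one'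
  rcases kside hx hω ht (by omega) with h | h | h
  rotate_left
  · exact Or.inr (Or.inl h)
  · exact Or.inr (Or.inr h)
  rcases her hn h with h | h | h | h | h | h
  · exact Or.inl h
  · exfalso
    obtain ⟨b, hb2, hbn, hE⟩ := h.exists
    have h1 : b ∣ finrank K K := by
      refine ext_dvd_pow hE hx ht (i := Nat.card K - 1) (fun h1 => ?_) (hk1 ν)
      have h2 := hω.dvd_of_pow (K := K) h1
      exact num_gam_one hq1 (by omega) (by omega) (by rw [← hdim]; exact Nat.le_of_dvd (by omega) hbn) h2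
    rw [finrank_self] at h1
    have := Nat.le_of_dvd one_pos h1
    omega
  · exact absurd (symp_two h hx hω ht (by omega)) id
  · exfalso
    have h1 : TwoT L K (x ^ (Nat.card K - 1)) (ω ^ (Nat.card K - 1)) 1 := by
      have := ht.pow (Nat.card K - 1)
      rwa [hk1] at this
    obtain ⟨t, h2, h3⟩ := gam_two h (H.pow_mem hx _) h1 (fun h2 => by
      have h3 := hω.dvd_of_pow (K := K) h2
      exact num_gam_one (t := 1) hq1 (k := finrank K L) (by omega) (by omega) (by omega) (by rwa [mul_one]))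
    rw [finrank_self, one_mul] at h2
    rw [← pow_mul] at h3
    exact num_gam_one hq1 (by omega) (by omega) (by omega) (hω.dvd_of_pow (K := K) h3)
  · exfalso
    refine thi_kill h hx fun h1 => ?_
    have h2 : ω ^ orderOf x = 1 := (ht.pow_eq_one_iff.1 (pow_orderOf_eq_one x)).1
    have h3 := (hω.dvd_of_pow (K := K) h2).trans h1
    obtain ⟨h4, h5, -⟩ := h
    have h6 : finrank K L = 5 := by omega
    rw [Nat.card_eq_fintype_card, h5, h6] at h3
    norm_num at h3
  · exfalso
    have h0 := h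
    obtain ⟨h4, h5, -⟩ := h0
    have h6 : finrank K L = 5 := by omega
    have h7 : Nat.card K = 2 := by rw [Nat.card_eq_fintype_card, h5]
    have hν : ν = 1 := by
      have := hk1 ν
      rwa [h7, show 2 - 1 = 1 by rfl, pow_one] at this
    rw [hν] at ht
    have h8 : ω ^ 31 = 1 := by
      have := IsGen.pow_card (K := K) (ω := ω)
      rwa [h6, h7] at this
    have h9 : ω ≠ 1 := by
      intro h9
      have := hω.dvd_of_pow (K := K) (i := 1) (by rw [pow_one, h9])
      rw [h6, h7] at this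
      norm_num at this
    refine uni_kill h hx (r := 31) (ht.pow_eq_one_iff.2 ⟨h8, one_pow _⟩) (Or.inl ⟨rfl, ?_⟩)
    rw [(card_fix_two ht h9).1, finrank_self, h7, pow_one]

theorem num_ext {q k b : ℕ} (hq : 2 ≤ q) (hk : 3 ≤ k) (hb2 : 2 ≤ b) (hb : b ∣ k + 2) :
    ¬ (q ^ k - 1) ∣ (q ^ 2 - 1) * b := by
  intro hd
  have h1 := big_order hq hk (by omega) hd
  have h2 := Nat.le_of_dvd (by omega) hb
  have h3 : q ^ 2 = q * q := pow_two q
  by_cases hk5 : 5 ≤ k
  · have h0 : 2 * 2 ≤ q * q := Nat.mul_le_mul hq hq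
    have h4 := Nat.le_of_dvd (Nat.mul_pos (by omega) (by omega)) hd
    obtain ⟨m, hm⟩ : ∃ m, q ^ 2 = m + 1 := ⟨q ^ 2 - 1, by omega⟩
    rw [hm, Nat.add_sub_cancel] at h4
    have h5 : ∀ k, 5 ≤ k → m * (k + 2) + 1 < q ^ k := by
      intro k hk
      induction k, hk using Nat.le_induction with
      | base =>
        have h6 : q ^ 5 = q ^ 2 * q ^ 3 := by ring
        have h7 : 2 ^ 3 ≤ q ^ 3 := Nat.pow_le_pow_left hq 3
        rw [h6, hm]
        have h8 : (m + 1) * 2 ^ 3 ≤ (m + 1) * q ^ 3 := Nat.mul_le_mul_left _ h7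
        omega
      | succ k hk ih =>
        rw [pow_succ]
        have h6 : (m * (k + 2) + 1 + 1) * 2 ≤ q ^ k * q := Nat.mul_le_mul ih hq
        have h7 : m * 1 ≤ m * (k + 2) := Nat.mul_le_mul_left _ (by omega)
        have h8 : m * (k + 1 + 2) = m * (k + 2) + m := by ring
        omega
    have h6 := h5 k hk5
    have h7 : m * b ≤ m * (k + 2) := Nat.mul_le_mul_left _ h2
    omega
  · have hq2 : q = 2 := by
      by_contra hcon
      have : 3 * 3 ≤ q * q := Nat.mul_le_mul (by omega) (by omega)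
      omega
    subst hq2
    interval_cases k
    · have hb5 : b ≤ 5 := by omega
      interval_cases b <;> omega
    · have hb5 : b ≤ 6 := by omega
      interval_cases b <;> omega

variable {S : Type} [Field S] [Algebra K S] [Finite S] {M : Type} [Field M] [Algebra K M] [Finite M]

theorem over_h {H : Subgroup (V ≃ₗ[K] V)} (hn : 5 ≤ finrank K V) {s g : V ≃ₗ[K] V} (hs : s ∈ H) (hg : g ∈ H)
    {γ : Sˣ} (hγ : IsGen γ) (h1 : OneT S s (γ ^ (Nat.card K - 1))) {ω₁ : Lˣ} {ω₂ : Mˣ} (hω₁ : IsGen ω₁)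
    (hω₂ : IsGen ω₂) (h2 : TwoT L M g ω₁ ω₂) (hM : finrank K M = 2) :
    (∀ g : V ≃ₗ[K] V, LinearMap.det (g : V →ₗ[K] V) = 1 → g ∈ H) ∨ (2 ∣ finrank K V ∧ ExtB H 2) := by
  have hfin : Module.Finite K V := Module.Finite.of_finite
  have hfinL : Module.Finite K L := Module.Finite.of_finite
  have hfinM : Module.Finite K M := Module.Finite.of_finite
  have hdim : finrank K V = finrank K L + 2 := by
    obtain ⟨e, -⟩ := h2
    rw [e.finrank_eq, Module.finrank_prod, hM]
  have hdimS : finrank K V = finrank K S := by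
    obtain ⟨e, -⟩ := h1
    exact e.finrank_eq
  have hnt : Nontrivial V := Module.nontrivial_of_finrank_pos (R := K) (by omega)
  have hq1 : 2 ≤ Nat.card K := one_lt_q
  have hq2 : 4 ≤ Nat.card K ^ 2 := by nlinarith
  have hν : ω₂ ^ (Nat.card K ^ 2 - 1) = 1 := by
    have := IsGen.pow_card (K := K) (ω := ω₂)
    rwa [hM] at this
  have hT := hside hs hg hγ h1 hω₁ hω₂ h2 hM (by omega)
  have hPT : PTr H := by
    intro v w hv hw
    obtain ⟨h, hh, e⟩ := hT v w hv hw
    exact ⟨h, hh, 1, by rw [e, one_smul]⟩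
  rcases her hn hPT with h | h | h | h | h | h
  · exact Or.inl h
  · right
    obtain ⟨b, hb2, hbn, hE⟩ := h.exists
    have h3 : b ∣ finrank K M := by
      refine ext_dvd_pow hE hg h2 (i := Nat.card K ^ 2 - 1) (fun h3 => ?_) hν
      have h4 := hω₁.dvd_of_pow (K := K) h3
      exact num_ext hq1 (by omega) hb2 (by rwa [← hdim]) h4
    rw [hM] at h3
    obtain rfl : b = 2 := by
      have := Nat.le_of_dvd two_pos h3
      omega
    exact ⟨hbn, hE⟩
  · exact absurd (symp_one h hs hγ h1 (by omega)) id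
  · exfalso
    have h3 : TwoT L M (g ^ (Nat.card K ^ 2 - 1)) (ω₁ ^ (Nat.card K ^ 2 - 1)) 1 := by
      have := h2.pow (Nat.card K ^ 2 - 1)
      rwa [hν] at this
    obtain ⟨t, h4, h5⟩ := gam_two h (H.pow_mem hg _) h3 (fun h4 => by
      have h5 := hω₁.dvd_of_pow (K := K) h4
      have h6 := big_order (r := 1) hq1 (k := finrank K L) (by omega) one_pos (by rwa [mul_one])
      omega)
    rw [hM] at h4
    rw [← pow_mul] at h5
    exact num_gam_two hq1 (by omega) (by omega) (hω₁.dvd_of_pow (K := K) h5)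
  · exfalso
    refine thi_kill h hg fun h3 => ?_
    have h4 : ω₁ ^ orderOf g = 1 := (h2.pow_eq_one_iff.1 (pow_orderOf_eq_one g)).1
    have h5 := (hω₁.dvd_of_pow (K := K) h4).trans h3
    obtain ⟨h6, h7, -⟩ := h
    have h8 : finrank K L = 4 := by omega
    rw [Nat.card_eq_fintype_card, h7, h8] at h5
    norm_num at h5
  · exfalso
    have h0 := h
    obtain ⟨h4, h5, -⟩ := h0
    have h6 : finrank K L = 4 := by omega
    have h7 : Nat.card K = 2 := by rw [Nat.card_eq_fintype_card, h5]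
    have h3 : TwoT L M (g ^ 3) (ω₁ ^ 3) 1 := by
      have h8 := h2.pow 3
      rw [h7] at hν
      rwa [show ω₂ ^ 3 = 1 from hν] at h8
    have h8 : (ω₁ ^ 3) ^ 5 = 1 := by
      have := IsGen.pow_card (K := K) (ω := ω₁)
      rw [h6, h7] at this
      rwa [← pow_mul]
    have h9 : ω₁ ^ 3 ≠ 1 := by
      intro h9
      have := hω₁.dvd_of_pow (K := K) h9
      rw [h6, h7] at this
      norm_num at this
    refine uni_kill h (H.pow_mem hg 3) (r := 5) (h3.pow_eq_one_iff.2 ⟨h8, one_pow _⟩) (Or.inr ⟨rfl, ?_⟩)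
    rw [(card_fix_two h3 h9).1, hM, h7]
    norm_num

end Cfsg.Agent.H184.Cov
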