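import Mathlib
import Cfsg.Agent.H184.Cov.Kills
import Cfsg.Agent.H278.Cov.Defs

/-!
# S2499, the row `PSL_n(q)`, `n ≥ 5` (helper184)

`noTwo_psl` : `PSL_n(q)`, `n ≥ 5`, is not the union of the conjugates of two proper subgroups.
-/

set_option autoImplicit false
set_option linter.unusedSectionVars false

namespace Cfsg.Agent.H184.Cov

open Module Polynomial

section

variable {K : Type} [Field K] [Fintype K]

/-- `ω²` is not conjugate to `ω⁻²` in the field of degree three -/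
theorem not_conj_three {L : Type} [Field L] [Algebra K L] [Finite L] (hL : finrank K L = 3) {ω : Lˣ} (hω : IsGen ω) :
    aeval ((ω ^ 2 : Lˣ) : L) (minpoly K (((ω⁻¹) ^ 2 : Lˣ) : L)) ≠ 0 := by
  intro hP0
  have hfin : Module.Finite K L := Module.Finite.of_finite
  have hint : IsIntegral K (((ω⁻¹) ^ 2 : Lˣ) : L) := Algebra.IsIntegral.isIntegral _
  have hconj : IsConjRoot K (((ω⁻¹) ^ 2 : Lˣ) : L) ((ω ^ 2 : Lˣ) : L) :=
    minpoly.eq_of_irreducible_of_monic (minpoly.irreducible hint) hP0 (minpoly.monic hint)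
  obtain ⟨σ, hσ⟩ := (isConjRoot_iff_exists_algEquiv (K := K)).1 hconj
  obtain ⟨p, hp⟩ := CharP.exists K
  have hpp : Fact p.Prime := ⟨CharP.char_is_prime K p⟩
  obtain ⟨i, hi⟩ := FiniteField.exists_forall_apply_eq_pow K p L σ
  have hcL : Nat.card L = Nat.card K ^ finrank K L := card_field
  have h1 : ((ω ^ 2 : Lˣ) : L) ^ (Nat.card K ^ (i % finrank K L)) = (((ω⁻¹) ^ 2 : Lˣ) : L) := by
    rw [← pow_mod hcL, ← hi, hσ]
  have h2 : ω ^ (2 * (Nat.card K ^ (i % finrank K L) + 1)) = 1 := by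
    have h4 : (ω ^ 2) ^ (Nat.card K ^ (i % finrank K L)) = (ω⁻¹) ^ 2 := by
      apply Units.ext
      rw [Units.val_pow_eq_pow_val]
      exact h1
    rw [mul_add, mul_one, pow_add, pow_mul, h4, inv_pow, inv_mul_cancel]
  have h3 := hω.dvd_of_pow (K := K) h2
  rw [hL] at h3
  have h4 : i % 3 < 3 := Nat.mod_lt _ (by norm_num)
  have hq : 2 ≤ Nat.card K := one_lt_q
  generalize Nat.card K = q at h3 hq
  generalize i % 3 = j at h3 h4
  have h5 := Nat.le_of_dvd (by positivity) h3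
  have h6 : q ^ j ≤ q ^ 2 := Nat.pow_le_pow_right (by omega) (by omega)
  have h7 : q ^ 3 = q ^ 2 * q := by ring
  by_cases hq3 : 3 ≤ q
  · have h8 : q ^ 2 * 3 ≤ q ^ 2 * q := Nat.mul_le_mul_left _ hq3
    have h9 : 3 ^ 2 ≤ q ^ 2 := Nat.pow_le_pow_left hq3 2
    omega
  · obtain rfl : q = 2 := by omega
    interval_cases j <;> omega

variable {V : Type} [AddCommGroup V] [Module K V] [Finite V]

/-- the element excluding the structure over `𝔽_{q²}` -/
theorem exists_third (hn : 5 ≤ finrank K V) (h2 : 2 ∣ finrank K V) : ∃ g : V ≃ₗ[K] V,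
    LinearMap.det (g : V →ₗ[K] V) = 1 ∧ NoEig g ∧
      ∀ (k : V ≃ₗ[K] V) (H : Subgroup (V ≃ₗ[K] V)), k * g * k⁻¹ ∈ H → ¬ ExtB H 2 := by
  have hfin : Module.Finite K V := Module.Finite.of_finite
  have hnt : Nontrivial V := Module.nontrivial_of_finrank_pos (R := K) (by omega)
  have hq : 2 ≤ Nat.card K := one_lt_q
  obtain ⟨M, iM, iM', iM'', hM⟩ := exists_ext K (k := 3) (by norm_num)
  by_cases hn6 : finrank K V = 6
  · obtain ⟨ω, hω⟩ := exists_gen (L := M)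
    obtain ⟨g, hg, ht⟩ := exists_two (V := V) M M (by rw [hn6, hM]) ω ω⁻¹ (by rw [map_inv, mul_inv_cancel])
    have h3 : ∀ c : K, (ω : M) ≠ algebraMap K M c := by
      intro c hc
      have h4 := hω.base_pow (i := 1) (c := c) (by rwa [pow_one])
      rw [hM, one_mul] at h4
      have h5 := Nat.le_of_dvd (by omega) h4
      have h6 : Nat.card K ^ 1 < Nat.card K ^ 3 := Nat.pow_lt_pow_right (by omega) (by norm_num)
      rw [pow_one] at h6
      omega
    have h4 : ∀ c : K, ((ω⁻¹ : Mˣ) : M) ≠ algebraMap K M c := by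
      intro c hc
      apply h3 c⁻¹
      rw [map_inv₀, ← hc, Units.val_inv_eq_inv_val, inv_inv]
    refine ⟨g, hg, ht.noEig h3 h4, fun k H hk hE => ?_⟩
    have h5 := ext_dvd hE hk (ht.conj k) (P := minpoly K (((ω⁻¹) ^ 2 : Mˣ) : M)) (not_conj_three hM hω)
      (minpoly.aeval _ _)
    rw [hM] at h5
    omega
  · obtain ⟨L, iL, iL', iL'', hL⟩ := exists_ext K (k := finrank K V - 3) (by omega)
    have hn8 : 8 ≤ finrank K V := by omega
    obtain ⟨ω, hω⟩ := exists_gen (L := L)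
    obtain ⟨ν, hν, hνK⟩ := exists_nm (K := K) (L := M) (by omega) (nm ω)⁻¹
    obtain ⟨g, hg, ht⟩ := exists_two (V := V) L M (by rw [hL, hM]; omega) ω ν (by rw [hν, mul_inv_cancel])
    have h3 : ∀ c : K, (ω : L) ≠ algebraMap K L c := by
      intro c hc
      have h4 := hω.base_pow (i := 1) (c := c) (by rwa [pow_one])
      rw [one_mul] at h4
      have h5 := Nat.le_of_dvd (by omega) h4
      have h6 : Nat.card K ^ 1 < Nat.card K ^ finrank K L := Nat.pow_lt_pow_right (by omega) (by omega)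
      rw [pow_one] at h6
      omega
    refine ⟨g, hg, ht.noEig h3 hνK, fun k H hk hE => ?_⟩
    have h5 := ext_dvd_pow hE hk (ht.conj k) (i := Nat.card K ^ 3 - 1) (fun h5 => by
      have h6 := hω.dvd_of_pow (K := K) h5
      have h7 : 2 ^ 3 ≤ Nat.card K ^ 3 := Nat.pow_le_pow_left hq 3
      have h8 := Nat.le_of_dvd (by omega) h6
      have h9 : Nat.card K ^ 5 ≤ Nat.card K ^ finrank K L := Nat.pow_le_pow_right (by omega) (by omega)
      have h10 : Nat.card K ^ 5 = Nat.card K ^ 3 * Nat.card K ^ 2 := by ring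
      have h11 : 2 ^ 2 ≤ Nat.card K ^ 2 := Nat.pow_le_pow_left hq 2
      have h12 : Nat.card K ^ 3 * 2 ^ 2 ≤ Nat.card K ^ 3 * Nat.card K ^ 2 := Nat.mul_le_mul_left _ h11
      omega) (by
      rw [← hM]
      exact IsGen.pow_card)
    rw [hM] at h5
    omega

end

open Cfsg.Agent.H278.Cov

theorem noTwo_sl {n : ℕ} (hn : 5 ≤ n) {K : Type} [Field K] [Fintype K] :
    NoTwo (Matrix.SpecialLinearGroup (Fin n) K) := by
  have hdim : finrank K (Fin n → K) = n := by simp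
  have hn' : 5 ≤ finrank K (Fin n → K) := by omega
  have hq : 2 ≤ Nat.card K := one_lt_q
  let ρ : Matrix.SpecialLinearGroup (Fin n) K →* ((Fin n → K) ≃ₗ[K] (Fin n → K)) := Matrix.SpecialLinearGroup.toLin'
  have hρ : Function.Injective ρ := Matrix.SpecialLinearGroup.toLin'_injective
  -- `x`
  obtain ⟨L1, i1, i1', i1'', hL1⟩ := exists_ext K (k := n - 1) (by omega)
  obtain ⟨ω, hω⟩ := exists_gen (L := L1)
  obtain ⟨x, hx, htx⟩ := exists_two (V := Fin n → K) L1 K (by rw [hL1, hdim, finrank_self]; omega) ω (nm ω)⁻¹ (by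
    have h1 : nm (K := K) (L := K) ((nm ω : Kˣ)⁻¹) = ((nm ω : Kˣ)⁻¹) := by
      apply Units.ext
      change Algebra.norm K (((nm ω : Kˣ)⁻¹ : Kˣ) : K) = _
      rw [Algebra.norm_self]
      rfl
    rw [h1, mul_inv_cancel])
  -- `s`
  obtain ⟨S, iS, iS', iS'', hS⟩ := exists_ext K (k := n) (by omega)
  obtain ⟨γ, hγ⟩ := exists_gen (L := S)
  obtain ⟨s, hs, hts⟩ := exists_one (V := Fin n → K) S (by rw [hS, hdim]) (γ ^ (Nat.card K - 1)) (by
    rw [map_pow, ← card_units_base]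
    exact pow_card_eq_one')
  -- `g`
  obtain ⟨L2, i2, i2', i2'', hL2⟩ := exists_ext K (k := n - 2) (by omega)
  obtain ⟨M, iM, iM', iM'', hM⟩ := exists_ext K (k := 2) (by omega)
  obtain ⟨ω₁, hω₁⟩ := exists_gen (L := L2)
  obtain ⟨ω₂, hω₂, hω₂'⟩ := exists_gen_nm (K := K) (L := M) (hω₁.nm (K := K)).inv
  obtain ⟨g, hg, htg⟩ := exists_two (V := Fin n → K) L2 M (by rw [hL2, hM, hdim]; omega) ω₁ ω₂ (by
    rw [hω₂, mul_inv_cancel])
  -- no eigenvectors
  have hgenK : ∀ (F : Type) (_ : Field F) (_ : Algebra K F) (_ : Finite F), 2 ≤ finrank K F → ∀ u : Fˣ, IsGen u →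
      ∀ c : K, (u : F) ≠ algebraMap K F c := by
    intro F _ _ _ h2 u hu c hc
    have h4 := hu.base_pow (i := 1) (c := c) (by rwa [pow_one])
    rw [one_mul] at h4
    have h5 := Nat.le_of_dvd (by omega) h4
    have h6 : Nat.card K ^ 1 < Nat.card K ^ finrank K F := Nat.pow_lt_pow_right (by omega) (by omega)
    rw [pow_one] at h6
    omega
  have hsE : NoEig s := by
    refine hts.noEig fun c hc => ?_
    have h4 := hγ.base_pow hc
    have h5 := Nat.le_of_dvd (Nat.mul_pos (by omega) (by omega)) h4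
    rw [hS] at h5
    have h6 : Nat.card K ^ 2 ≤ Nat.card K ^ n := Nat.pow_le_pow_right (by omega) (by omega)
    obtain ⟨m, hm⟩ : ∃ m, Nat.card K = m + 1 := ⟨Nat.card K - 1, by omega⟩
    rw [hm, Nat.add_sub_cancel] at h5
    rw [hm] at h6
    have h7 : (m + 1) ^ 2 = m * m + 2 * m + 1 := by ring
    omega
  have hgE1 : ∀ c : K, (ω₁ : L2) ≠ algebraMap K L2 c := hgenK L2 i2 i2' i2'' (by omega) ω₁ hω₁
  have hgE2 : ∀ c : K, (ω₂ : M) ≠ algebraMap K M c := hgenK M iM iM' iM'' (by omega) ω₂ hω₂'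
  have hgE : NoEig g := htg.noEig hgE1 hgE2
  -- `g'`
  obtain ⟨g', hg', hgE', hkill⟩ : ∃ g' : (Fin n → K) ≃ₗ[K] (Fin n → K),
      LinearMap.det (g' : (Fin n → K) →ₗ[K] (Fin n → K)) = 1 ∧ NoEig g' ∧
      ∀ (k : (Fin n → K) ≃ₗ[K] (Fin n → K)) (H : Subgroup ((Fin n → K) ≃ₗ[K] (Fin n → K))), k * g' * k⁻¹ ∈ H →
        2 ∣ finrank K (Fin n → K) → ¬ ExtB H 2 := by
    by_cases h2 : 2 ∣ finrank K (Fin n → K)
    · obtain ⟨g', h3, h4, h5⟩ := exists_third hn' h2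
      exact ⟨g', h3, h4, fun k H h _ => h5 k H h⟩
    · exact ⟨g, hg, hgE, fun _ _ _ h => absurd h h2⟩
  obtain ⟨x₀, hx₀⟩ := exists_sl hx
  obtain ⟨s₀, hs₀⟩ := exists_sl hs
  obtain ⟨g₀, hg₀⟩ := exists_sl hg
  obtain ⟨g₀', hg₀'⟩ := exists_sl hg'
  -- conjugates
  have hmem : ∀ (H : Subgroup (Matrix.SpecialLinearGroup (Fin n) K)) (y₀ : Matrix.SpecialLinearGroup (Fin n) K)
      (y : (Fin n → K) ≃ₗ[K] (Fin n → K)), ρ y₀ = y → ¬ Av y₀ H → ∃ k, k * y * k⁻¹ ∈ H.map ρ := by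
    intro H y₀ y h1 h2
    obtain ⟨k, hk⟩ := not_av h2
    exact ⟨ρ k, _, hk, by rw [map_mul, map_mul, map_inv, h1]⟩
  have htop : ∀ H : Subgroup (Matrix.SpecialLinearGroup (Fin n) K), H ≠ ⊤ →
      ¬ ∀ g : (Fin n → K) ≃ₗ[K] (Fin n → K), LinearMap.det (g : (Fin n → K) →ₗ[K] (Fin n → K)) = 1 → g ∈ H.map ρ := by
    intro H hH h
    apply hH
    rw [eq_top_iff]
    intro y _
    obtain ⟨z, hz, hzy⟩ := h (ρ y) (by
      have h1 : ((ρ y : (Fin n → K) ≃ₗ[K] (Fin n → K)) : (Fin n → K) →ₗ[K] (Fin n → K)) =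
          Matrix.toLin' (y : Matrix (Fin n) (Fin n) K) := Matrix.SpecialLinearGroup.toLin'_to_linearMap y
      rw [h1, LinearMap.det_toLin', Matrix.SpecialLinearGroup.det_coe])
    rwa [← hρ hzy]
  -- the two sides
  have hK : ∀ H : Subgroup (Matrix.SpecialLinearGroup (Fin n) K), H ≠ ⊤ → ¬ Av x₀ H →
      Av s₀ H ∧ Av g₀ H ∧ Av g₀' H := by
    intro H hH h1
    obtain ⟨k, hk⟩ := hmem H x₀ x hx₀ h1
    have hR : Red (H.map ρ) := (over_k hn' hk hω (htx.conj k)).resolve_left (htop H hH)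
    have hav : ∀ (y₀ : Matrix.SpecialLinearGroup (Fin n) K) (y : (Fin n → K) ≃ₗ[K] (Fin n → K)), ρ y₀ = y →
        NoEig y → Av y₀ H := by
      intro y₀ y h2 h3
      by_contra h4
      obtain ⟨k', hk'⟩ := hmem H y₀ y h2 h4
      exact (h3.conj k').not_red hk' hR
    exact ⟨hav s₀ s hs₀ hsE, hav g₀ g hg₀ hgE, hav g₀' g' hg₀' hgE'⟩
  have hH : ∀ H : Subgroup (Matrix.SpecialLinearGroup (Fin n) K), H ≠ ⊤ → Av s₀ H ∨ Av g₀ H ∨ Av g₀' H := by
    intro H hH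
    by_contra hcon
    push Not at hcon
    obtain ⟨h1, h2, h3⟩ := hcon
    obtain ⟨k1, hk1⟩ := hmem H s₀ s hs₀ h1
    obtain ⟨k2, hk2⟩ := hmem H g₀ g hg₀ h2
    obtain ⟨k3, hk3⟩ := hmem H g₀' g' hg₀' h3
    obtain ⟨h4, h5⟩ := (over_h hn' hk1 hk2 hγ (hts.conj k1) hω₁ hω₂' (htg.conj k2) hM).resolve_left (htop H hH)
    exact hkill k3 _ hk3 h4 h5
  intro H K' hHt hKt
  by_cases h1 : Av x₀ H
  · by_cases h2 : Av x₀ K'
    · exact ⟨x₀, h1, h2⟩
    · obtain ⟨a, b, c⟩ := hK K' hKt h2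
      rcases hH H hHt with h | h | h
      · exact ⟨s₀, h, a⟩
      · exact ⟨g₀, h, b⟩
      · exact ⟨g₀', h, c⟩
  · obtain ⟨a, b, c⟩ := hK H hHt h1
    rcases hH K' hKt with h | h | h
    · exact ⟨s₀, a, h⟩
    · exact ⟨g₀, b, h⟩
    · exact ⟨g₀', c, h⟩

/-- **The row `PSL_n(q)`, `n ≥ 5`.** -/
theorem noTwo_psl {n : ℕ} (hn : 5 ≤ n) {F : Type} [Field F] [Fintype F] :
    NoTwo (Matrix.ProjectiveSpecialLinearGroup (Fin n) F) :=
  (noTwo_sl hn (K := F)).of_surjective (QuotientGroup.mk' _) (QuotientGroup.mk'_surjective _)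

end Cfsg.Agent.H184.Cov
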